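import Mathlib
import Cfsg.Agent.Lib.Helper5.LinearCard
import Cfsg.Agent.S0494
import Cfsg.Agent.S2119

/-!
# Automorphisms of `SL(2,5)` (helper32)

`|Aut(SL(2,5))|` divides `120`; consequence: a normal subgroup `S ≅ SL(2,5)` of a finite group `G`
satisfies `|G : S C_G(S)| ≤ 2`.
-/

set_option autoImplicit false

namespace Cfsg.Agent.Lib.Helper32.AutSL25

open Subgroup

abbrev SL25 := Matrix.SpecialLinearGroup (Fin 2) (ZMod 5)

instance : Fact (Nat.Prime 5) := ⟨by norm_num⟩

/-- the automorphism of `X / Z(X)` induced by an automorphism of `X`. -/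
noncomputable def autQuot (X : Type*) [Group X] : MulAut X →* MulAut (X ⧸ center X) :=
  MonoidHom.mk' (fun φ => QuotientGroup.congr (center X) (center X) φ
    (characteristic_iff_map_eq.1 inferInstance φ)) (by
    intro φ ψ
    ext x
    induction x using QuotientGroup.induction_on with
    | H x => rfl)

theorem autQuot_mk (X : Type*) [Group X] (φ : MulAut X) (x : X) :
    autQuot X φ (QuotientGroup.mk x) = QuotientGroup.mk (φ x) := rfl

theorem aux_mul {X : Type*} [Group X] (a b u v : X) (h : b⁻¹ * (a⁻¹ * u) = (a⁻¹ * u) * b⁻¹) :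
    (a * b)⁻¹ * (u * v) = (a⁻¹ * u) * (b⁻¹ * v) := by
  calc (a * b)⁻¹ * (u * v) = (b⁻¹ * (a⁻¹ * u)) * v := by group
    _ = ((a⁻¹ * u) * b⁻¹) * v := by rw [h]
    _ = (a⁻¹ * u) * (b⁻¹ * v) := by group

/-- for a perfect group `X`, `Aut X → Aut (X/Z(X))` is injective. -/
theorem autQuot_injective (X : Type*) [Group X] (hX : commutator X = ⊤) :
    Function.Injective (autQuot X) := by
  rw [injective_iff_map_eq_one]
  intro φ hφ
  have hz : ∀ x : X, x⁻¹ * φ x ∈ center X := by
    intro x
    have h1 : autQuot X φ (QuotientGroup.mk x) = QuotientGroup.mk x := by rw [hφ]; rfl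
    rw [autQuot_mk] at h1
    exact QuotientGroup.eq.1 h1.symm
  -- `x ↦ x⁻¹ φ x` is a homomorphism into the centre
  let f : X →* center X := MonoidHom.mk' (fun x => ⟨x⁻¹ * φ x, hz x⟩) (by
    intro a b
    apply Subtype.ext
    show (a * b)⁻¹ * φ (a * b) = (a⁻¹ * φ a) * (b⁻¹ * φ b)
    rw [map_mul]
    exact aux_mul a b (φ a) (φ b) ((mem_center_iff.1 (hz a)) b⁻¹))
  have hker : f.ker = ⊤ := by
    rw [eq_top_iff, ← hX, commutator_def, Subgroup.commutator_le]
    intro a _ b _
    rw [MonoidHom.mem_ker, map_commutatorElement, commutatorElement_eq_one_iff_mul_comm]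
    apply Subtype.ext
    exact ((mem_center_iff.1 (f a).2) (f b)).symm
  ext x
  have h1 : f x = 1 := by
    have : x ∈ f.ker := by rw [hker]; exact mem_top x
    exact this
  have h2 : x⁻¹ * φ x = 1 := congrArg Subtype.val h1
  rw [MulAut.one_apply]
  exact (inv_mul_eq_one.1 h2).symm

theorem card_SL25 : Nat.card SL25 = 120 := by
  rw [Cfsg.Agent.Lib.Helper5.card_SL2, ZMod.card]
  norm_num

theorem card_center_SL25 : Nat.card (center SL25) = 2 := by
  rw [Cfsg.Agent.Lib.Helper5.card_center_SL, ZMod.card, Fintype.card_fin]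
  norm_num

theorem commutator_SL25 : commutator SL25 = ⊤ :=
  Matrix.SL2.commutator_eq_top (a := (2 : ZMod 5)) (by decide) (by decide)

theorem card_PSL25 : Nat.card (SL25 ⧸ center SL25) = 60 := by
  have h := Subgroup.card_eq_card_quotient_mul_card_subgroup (center SL25)
  rw [card_SL25, card_center_SL25] at h
  omega

theorem card_mulAut_PSL25 : Nat.card (MulAut (SL25 ⧸ center SL25)) = 120 := by
  have hs : IsSimpleGroup (SL25 ⧸ center SL25) :=
    Matrix.ProjectiveSpecialLinearGroup.rank_two_simple (F := ZMod 5) (by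
      rw [Nat.card_eq_fintype_card, ZMod.card]; norm_num)
  obtain ⟨e⟩ := Cfsg.Agent.S0494.result (G := SL25 ⧸ center SL25) card_PSL25
  rw [Nat.card_congr (MulAut.congr e).toEquiv,
    ← Nat.card_congr (Equiv.ofBijective _ (Cfsg.Agent.S2119.result 5 (by norm_num) (by norm_num))),
    Nat.card_eq_fintype_card, Fintype.card_perm, Fintype.card_fin]
  rfl

theorem card_mulAut_SL25_dvd : Nat.card (MulAut SL25) ∣ 120 := by
  rw [← card_mulAut_PSL25]
  exact Subgroup.card_dvd_of_injective _ (autQuot_injective SL25 commutator_SL25)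

theorem map_center_eq {G : Type*} [Group G] (S : Subgroup G) :
    (center S).map S.subtype = S ⊓ centralizer (S : Set G) := by
  ext x
  constructor
  · rintro ⟨y, hy, rfl⟩
    refine mem_inf.2 ⟨y.2, ?_⟩
    rw [mem_centralizer_iff]
    intro h hh
    exact congrArg Subtype.val ((mem_center_iff.1 hy) ⟨h, hh⟩)
  · intro hx
    obtain ⟨hxS, hxC⟩ := mem_inf.1 hx
    refine ⟨⟨x, hxS⟩, ?_, rfl⟩
    rw [SetLike.mem_coe, mem_center_iff]
    intro g
    apply Subtype.ext
    exact (mem_centralizer_iff.1 hxC) g g.2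

theorem card_inf_centralizer {G : Type*} [Group G] (S : Subgroup G) (e : S ≃* SL25) :
    Nat.card (S ⊓ centralizer (S : Set G) : Subgroup G) = 2 := by
  rw [← map_center_eq, card_map_of_injective S.subtype_injective,
    Nat.card_congr (centerCongr e).toEquiv, card_center_SL25]

theorem ker_conjNormal {G : Type*} [Group G] (S : Subgroup G) [S.Normal] :
    (MulAut.conjNormal : G →* MulAut S).ker = centralizer (S : Set G) := by
  ext g
  rw [MonoidHom.mem_ker, mem_centralizer_iff]
  constructor
  · intro h x hx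
    have h1 := congrArg (fun φ : MulAut S => ((φ ⟨x, hx⟩ : S) : G)) h
    simp only [MulAut.conjNormal_apply, MulAut.one_apply] at h1
    rw [mul_inv_eq_iff_eq_mul] at h1
    exact h1.symm
  · intro h
    ext x
    rw [MulAut.conjNormal_apply, MulAut.one_apply, mul_inv_eq_iff_eq_mul]
    exact (h x x.2).symm

/-- A normal subgroup `S ≅ SL(2,5)` satisfies `|G : S C_G(S)| ∣ 2`. -/
theorem index_sup_centralizer_dvd {G : Type*} [Group G] [Finite G] (S : Subgroup G) [S.Normal]
    (e : S ≃* SL25) : (S ⊔ centralizer (S : Set G)).index ∣ 2 := by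
  set C := centralizer (S : Set G) with hC
  have hCn : C.Normal := by rw [hC, ← ker_conjNormal]; infer_instance
  have h1 : C.index ∣ 120 := by
    rw [hC, ← ker_conjNormal, index_ker]
    refine (card_subgroup_dvd_card _).trans ?_
    rw [Nat.card_congr (MulAut.congr e).toEquiv]
    exact card_mulAut_SL25_dvd
  have h2 : C.relIndex (S ⊔ C) * (S ⊔ C).index = C.index := relIndex_mul_index le_sup_right
  have h3 : C.relIndex (S ⊔ C) = 60 := by
    rw [relIndex_sup_right, ← inf_relIndex_right]
    have h4 := relIndex_mul_relIndex ⊥ (C ⊓ S) S bot_le inf_le_right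
    rw [relIndex_bot_left, relIndex_bot_left, inf_comm, card_inf_centralizer S e,
      Nat.card_congr e.toEquiv, card_SL25] at h4
    rw [inf_comm]
    omega
  rw [h3] at h2
  rw [← h2] at h1
  exact Nat.dvd_of_mul_dvd_mul_left (by norm_num : 0 < 60) (by simpa using h1)

end Cfsg.Agent.Lib.Helper32.AutSL25
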