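import Mathlib
import Cfsg.Agent.Lib.Helper32.AutSL25
import Cfsg.Agent.Lib.Helper66.FrobBasic

/-!
# Non-solvable Frobenius complements, modulo Zassenhaus' theorem S0690 (helper32)
-/

set_option autoImplicit false

namespace Cfsg.Agent.Lib.Helper32.FrobSL25

open Subgroup Cfsg.Agent.Lib.Helper66 Cfsg.Agent.Lib.Helper32.AutSL25

/-- The statement of S0690 (Zassenhaus), for kernels in `Type`. -/
def ZassHyp : Prop :=
  ∀ (K : Type) [Group K] [Finite K] (G : Subgroup (MulAut K)),
    (∀ φ ∈ G, φ ≠ 1 → ∀ k : K, φ k = k → k = 1) → commutator G = ⊤ → G ≠ ⊥ →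
    Nonempty (G ≃* Matrix.SpecialLinearGroup (Fin 2) (ZMod 5))

/-- `G` occurs as a Frobenius complement. -/
def IsFC (G : Type*) [Group G] : Prop :=
  ∃ (L : Type) (_ : Group L) (_ : Finite L) (H : Subgroup L),
    Cfsg.IsFrobeniusComplement H ∧ Nonempty (G ≃* H)

theorem FC.of_equiv {X Y : Type*} [Group X] [Group Y] (e : X ≃* Y) (h : FC Y) : FC X := by
  intro A p q hp hq hA
  have h1 : IsCyclic (A.map e.toMonoidHom) :=
    h _ p q hp hq (by rw [card_map_of_injective e.injective, hA])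
  exact isCyclic_of_surjective (A.equivMapOfInjective e.toMonoidHom e.injective).symm
    (MulEquiv.surjective _)

theorem FC.subgroup {X : Type*} [Group X] (h : FC X) (M : Subgroup X) : FC M := by
  intro A p q hp hq hA
  have h1 : IsCyclic (A.map M.subtype) :=
    h _ p q hp hq (by rw [card_map_of_injective M.subtype_injective, hA])
  exact isCyclic_of_surjective (A.equivMapOfInjective M.subtype M.subtype_injective).symm
    (MulEquiv.surjective _)

theorem IsFC.fc {G : Type*} [Group G] (h : IsFC G) : FC G := by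
  obtain ⟨L, _, _, H, hH, ⟨e⟩⟩ := h
  obtain ⟨N, D⟩ := exists_frobData H hH
  exact FC.of_equiv e D.fc

/-- A Frobenius complement acts faithfully and fixed-point-freely on the kernel. -/
theorem IsFC.exists_fpf {G : Type*} [Group G] (h : IsFC G) :
    ∃ (K : Type) (_ : Group K) (_ : Finite K) (ρ : G →* MulAut K), Function.Injective ρ ∧
      ∀ g : G, g ≠ 1 → ∀ k : K, ρ g k = k → k = 1 := by
  obtain ⟨L, _, _, H, hH, ⟨e⟩⟩ := h
  obtain ⟨N, D⟩ := exists_frobData H hH
  have hN : N.Normal := D.normal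
  let ρ : G →* MulAut N := (MulAut.conjNormal : L →* MulAut N).comp (H.subtype.comp e.toMonoidHom)
  have hfpf : ∀ g : G, g ≠ 1 → ∀ k : N, ρ g k = k → k = 1 := by
    intro g hg k hk
    have h1 : ((e g : H) : L) * k * ((e g : H) : L)⁻¹ = k := by
      have := congrArg Subtype.val hk
      rwa [show ((ρ g k : N) : L) = ((e g : H) : L) * k * ((e g : H) : L)⁻¹ from
        MulAut.conjNormal_apply _ _] at this
    have h2 : ((e g : H) : L) ≠ 1 := by
      intro h3
      apply hg
      have : e g = 1 := Subtype.ext h3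
      exact e.injective (by rw [this, map_one])
    have h3 : Commute (k : L) ((e g : H) : L) := by
      rw [mul_inv_eq_iff_eq_mul] at h1
      exact h1.symm
    exact Subtype.ext (D.fpf (e g).2 h2 k.2 h3)
  refine ⟨N, inferInstance, inferInstance, ρ, ?_, hfpf⟩
  rw [injective_iff_map_eq_one]
  intro g hg
  by_contra hg1
  apply D.ne_bot
  rw [eq_bot_iff]
  intro k hk
  have := hfpf g hg1 ⟨k, hk⟩ (by rw [hg]; rfl)
  exact congrArg Subtype.val this

theorem commutator_eq_top_of_equiv {X Y : Type*} [Group X] [Group Y] (e : X ≃* Y)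
    (h : commutator X = ⊤) : commutator Y = ⊤ := by
  have h1 := map_commutator (⊤ : Subgroup X) ⊤ e.toMonoidHom
  rw [← commutator_def, h, map_top_of_surjective _ e.surjective, ← commutator_def] at h1
  exact h1.symm

theorem commutator_subtype_eq_top {G : Type*} [Group G] {S : Subgroup G} (h : ⁅S, S⁆ = S) :
    commutator S = ⊤ := by
  have h1 := map_commutator (⊤ : Subgroup S) ⊤ S.subtype
  rw [← commutator_def, ← MonoidHom.range_eq_map, range_subtype, h] at h1
  apply map_injective S.subtype_injective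
  rw [h1, ← MonoidHom.range_eq_map, range_subtype]

/-- a non-solvable finite group has a nontrivial perfect normal subgroup. -/
theorem exists_perfect_normal {G : Type*} [Group G] [Finite G] (h : ¬ Group.IsSolvable G) :
    ∃ S : Subgroup G, S.Normal ∧ S ≠ ⊥ ∧ ⁅S, S⁆ = S := by
  -- minimise the order along the derived series
  obtain ⟨n, hn⟩ : ∃ n, ∀ m, Nat.card (derivedSeries G n) ≤ Nat.card (derivedSeries G m) := by
    have hne : (Set.range fun n => Nat.card (derivedSeries G n)).Nonempty := ⟨_, 0, rfl⟩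
    obtain ⟨n, hn⟩ := Nat.sInf_mem hne
    refine ⟨n, fun m => ?_⟩
    show (fun n => Nat.card (derivedSeries G n)) n ≤ _
    rw [hn]
    exact Nat.sInf_le ⟨m, rfl⟩
  refine ⟨derivedSeries G n, inferInstance, ?_, ?_⟩
  · intro hb
    exact h ⟨⟨n, hb⟩⟩
  · have h1 : derivedSeries G (n + 1) ≤ derivedSeries G n := by
      rw [derivedSeries_succ]; exact commutator_le_left _ _
    have h2 := eq_of_le_of_card_ge h1 (hn (n + 1))
    rw [derivedSeries_succ] at h2
    exact h2

/-- perfect nontrivial subgroups of Frobenius complements are `SL(2,5)`. -/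
theorem IsFC.perfect_equiv (hZ : ZassHyp) {G : Type*} [Group G] (h : IsFC G) {S : Subgroup G}
    (hS1 : S ≠ ⊥) (hS : ⁅S, S⁆ = S) : Nonempty (S ≃* SL25) := by
  obtain ⟨K, _, _, ρ, hinj, hfpf⟩ := h.exists_fpf
  let e := S.equivMapOfInjective ρ hinj
  obtain ⟨e'⟩ := hZ K (S.map ρ) (by
      rintro _ ⟨g, -, rfl⟩ hg k hk
      exact hfpf g (by rintro rfl; exact hg (map_one ρ)) k hk)
    (commutator_eq_top_of_equiv e (commutator_subtype_eq_top hS))
    (by rwa [Ne, map_eq_bot_iff_of_injective _ hinj])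
  exact ⟨e.trans e'⟩

/-- an element of order `4` in a subgroup of order divisible by `4`. -/
theorem FC.exists_orderOf_four {G : Type*} [Group G] [Finite G] (h : FC G) (C : Subgroup G)
    (h4 : 4 ∣ Nat.card C) : ∃ t ∈ C, orderOf t = 4 := by
  have : Fact (Nat.Prime 2) := ⟨Nat.prime_two⟩
  obtain ⟨A, hA⟩ := Sylow.exists_subgroup_card_pow_prime (G := C) 2 (n := 2) (by simpa using h4)
  have hA' : Nat.card (A.map C.subtype) = 2 * 2 := by
    rw [card_map_of_injective C.subtype_injective, hA]; norm_num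
  have hc := h _ 2 2 Nat.prime_two Nat.prime_two hA'
  obtain ⟨g, hg⟩ := hc.exists_generator
  refine ⟨g, map_subtype_le _ g.2, ?_⟩
  rw [← Subgroup.orderOf_mk (g : G) g.2, orderOf_eq_card_of_forall_mem_zpowers hg, hA']

/-- in an `FC`-group, commuting elements of order `2` coincide. -/
theorem FC.eq_of_orderOf_two {G : Type*} [Group G] [Finite G] (h : FC G) {x y : G}
    (hx : orderOf x = 2) (hy : orderOf y = 2) (hc : Commute x y) : y = x := by
  have h1 := h.commute_mem Nat.prime_two hx hy hc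
  obtain ⟨k, hk⟩ := mem_zpowers_iff.1 h1
  have hx2 : x ^ 2 = 1 := by rw [← hx]; exact pow_orderOf_eq_one x
  rcases Int.even_or_odd' k with ⟨m, rfl | rfl⟩
  · exfalso
    rw [zpow_mul, zpow_ofNat, hx2, one_zpow] at hk
    rw [← hk, orderOf_one] at hy
    omega
  · rw [zpow_add, zpow_mul, zpow_ofNat, hx2, one_zpow, one_mul, zpow_one] at hk
    exact hk.symm

theorem structure_of_normal_SL25 {G : Type*} [Group G] [Finite G] (h : FC G) (S : Subgroup G)
    [hSn : S.Normal] (e : S ≃* SL25) :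
    ∃ G₀ : Subgroup G, G₀.Normal ∧ (G₀.index = 1 ∨ G₀.index = 2) ∧
      ∃ M : Subgroup G, S ⊔ M = G₀ ∧ S ⊓ M = ⊥ ∧ (∀ s ∈ S, ∀ x ∈ M, s * x = x * s) ∧
        (∀ (p : ℕ) [Fact p.Prime] (P : Sylow p M), IsCyclic P) ∧ (Nat.card M).Coprime 30 := by
  set C := centralizer (S : Set G) with hC
  have hCn : C.Normal := by rw [hC, ← ker_conjNormal]; infer_instance
  have hcardS : Nat.card S = 120 := by rw [Nat.card_congr e.toEquiv, card_SL25]
  have hZ2 : Nat.card (S ⊓ C : Subgroup G) = 2 := card_inf_centralizer S e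
  have hZsq : ∀ x ∈ S ⊓ C, x ^ 2 = 1 := by
    intro x hx
    have := pow_card_eq_one' (G := (S ⊓ C : Subgroup G)) (x := ⟨x, hx⟩)
    rw [hZ2] at this
    exact congrArg Subtype.val this
  -- `4 ∤ |C|`
  have h4 : ¬ 4 ∣ Nat.card C := by
    intro h4
    obtain ⟨t, htC, ht⟩ := FC.exists_orderOf_four h C h4
    obtain ⟨i, hiS, hi⟩ := FC.exists_orderOf_four h S (by rw [hcardS]; norm_num)
    have hcomm : Commute i t := (mem_centralizer_iff.1 htC) i hiS
    have hi2 : orderOf (i ^ 2) = 2 := by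
      rw [orderOf_pow' i (by norm_num), hi]; norm_num
    have ht2 : orderOf (t ^ 2) = 2 := by
      rw [orderOf_pow' t (by norm_num), ht]; norm_num
    have h1 : t ^ 2 = i ^ 2 := FC.eq_of_orderOf_two h hi2 ht2 ((hcomm.pow_left 2).pow_right 2)
    have hnot : i ∉ S ⊓ C := by
      intro hmem
      have := hZsq i hmem
      have h5 := orderOf_dvd_of_pow_eq_one this
      rw [hi] at h5
      omega
    have hw2 : (i * t⁻¹) ^ 2 = 1 := by
      rw [(hcomm.inv_right).mul_pow, inv_pow, h1, mul_inv_cancel]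
    by_cases hw : i * t⁻¹ = 1
    · apply hnot
      have : i = t := by rwa [mul_inv_eq_one] at hw
      exact mem_inf.2 ⟨hiS, this ▸ htC⟩
    · have hwo : orderOf (i * t⁻¹) = 2 := orderOf_eq_prime hw2 hw
      have hc2 : Commute (i ^ 2) (i * t⁻¹) :=
        ((Commute.refl i).mul_right hcomm.inv_right).pow_left 2
      have h6 := FC.eq_of_orderOf_two h hi2 hwo hc2
      apply hnot
      have h7 : t⁻¹ = i := by
        have : i * t⁻¹ = i * i := by rw [h6, sq]
        exact mul_left_cancel this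
      exact mem_inf.2 ⟨hiS, h7 ▸ C.inv_mem htC⟩
  -- complement of `S ⊓ C` in `C`
  have hZn : (S ⊓ C).Normal := inferInstance
  set N := (S ⊓ C).subgroupOf C with hN
  have hNcard : Nat.card N = 2 := by
    rw [hN, Nat.card_congr (subgroupOfEquivOfLe (inf_le_right : S ⊓ C ≤ C)).toEquiv, hZ2]
  have hNidx : Nat.card N * N.index = Nat.card C := card_mul_index N
  have hodd : ¬ 2 ∣ N.index := by
    intro h2
    apply h4
    rw [← hNidx, hNcard]
    exact Nat.mul_dvd_mul_left 2 h2
  obtain ⟨H, hH⟩ := exists_right_complement'_of_coprime (N := N) (by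
    rw [hNcard]; exact (Nat.Prime.coprime_iff_not_dvd Nat.prime_two).2 hodd)
  set M := H.map C.subtype with hM
  have hMC : M ≤ C := map_subtype_le _
  have hMcard : 2 * Nat.card M = Nat.card C := by
    rw [hM, card_map_of_injective C.subtype_injective, ← hNcard]
    exact hH.card_mul_card
  have hModd : ¬ 2 ∣ Nat.card M := by
    intro h2
    apply h4
    rw [← hMcard]
    exact Nat.mul_dvd_mul_left 2 h2
  have hsup : (S ⊓ C) ⊔ M = C := by
    have h1 := congrArg (Subgroup.map C.subtype) hH.sup_eq_top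
    rw [Subgroup.map_sup, hN, subgroupOf_map_subtype, ← MonoidHom.range_eq_map, range_subtype,
      inf_assoc, inf_idem] at h1
    exact h1
  have hSM : S ⊓ M = ⊥ := by
    have h1 : Nat.card (S ⊓ M : Subgroup G) ∣ 2 := by
      rw [← hZ2]; exact card_dvd_of_le (inf_le_inf_left S hMC)
    have h2 : Nat.card (S ⊓ M : Subgroup G) ∣ Nat.card M := card_dvd_of_le inf_le_right
    rcases (Nat.dvd_prime Nat.prime_two).1 h1 with h3 | h3
    · exact card_eq_one.1 h3
    · exact absurd (h3 ▸ h2) hModd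
  have hSsup : S ⊔ M = S ⊔ C := by
    apply le_antisymm (sup_le_sup_left hMC S)
    refine sup_le le_sup_left ?_
    rw [← hsup]
    exact sup_le (inf_le_left.trans le_sup_left) le_sup_right
  have hcommSM : ∀ s ∈ S, ∀ x ∈ M, s * x = x * s := fun s hs x hx =>
    (mem_centralizer_iff.1 (hMC hx)) s hs
  refine ⟨S ⊔ C, inferInstance, ?_, M, hSsup, hSM, hcommSM, ?_, ?_⟩
  · have := index_sup_centralizer_dvd S e
    rcases (Nat.dvd_prime Nat.prime_two).1 this with h1 | h1
    · exact Or.inl h1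
    · exact Or.inr h1
  · intro p _ P
    rcases (FC.subgroup h M).cyclic_or_quaternion (P : Subgroup M) P.isPGroup' with h1 | ⟨-, n, ⟨f⟩⟩
    · exact h1
    · exfalso
      apply hModd
      have h2 : Nat.card (P : Subgroup M) = 4 * 2 ^ n := by
        have : NeZero (2 ^ n) := ⟨by positivity⟩
        rw [Nat.card_congr f.toEquiv, Nat.card_eq_fintype_card, QuaternionGroup.card]
      have h3 : Nat.card (P : Subgroup M) ∣ Nat.card M := card_subgroup_dvd_card _
      rw [h2] at h3
      exact (Dvd.intro _ (by ring : 2 * (2 * 2 ^ n) = 4 * 2 ^ n)).trans h3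
  · -- coprime to 30
    have key : ∀ p : ℕ, p.Prime → p ∣ 120 → p ≠ 2 → ¬ p ∣ Nat.card M := by
      intro p hp hp120 hp2 hpM
      have : Fact p.Prime := ⟨hp⟩
      obtain ⟨x, hx⟩ := exists_prime_orderOf_dvd_card' (G := M) p hpM
      obtain ⟨y, hy⟩ := exists_prime_orderOf_dvd_card' (G := S) p (by rw [hcardS]; exact hp120)
      rw [← Subgroup.orderOf_coe] at hx hy
      have hc : Commute (x : G) (y : G) := (hcommSM y y.2 x x.2).symm
      have h1 := h.commute_mem hp hx hy hc
      have h2 : (y : G) ∈ M := (zpowers_le.2 x.2) h1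
      have h3 : (y : G) ∈ S ⊓ M := mem_inf.2 ⟨y.2, h2⟩
      rw [hSM, mem_bot] at h3
      rw [h3, orderOf_one] at hy
      exact hp.one_lt.ne hy
    have h30 : (30 : ℕ) = 2 * 3 * 5 := by norm_num
    rw [h30]
    refine Nat.Coprime.mul_right (Nat.Coprime.mul_right ?_ ?_) ?_
    · exact ((Nat.Prime.coprime_iff_not_dvd Nat.prime_two).2 hModd).symm
    · exact ((Nat.Prime.coprime_iff_not_dvd Nat.prime_three).2
        (key 3 Nat.prime_three (by norm_num) (by norm_num))).symm
    · exact ((Nat.Prime.coprime_iff_not_dvd Nat.prime_five).2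
        (key 5 Nat.prime_five (by norm_num) (by norm_num))).symm

/-- S3359 modulo S0690. -/
theorem nonsolvable_complement (hZ : ZassHyp) {G : Type*} [Group G] [Finite G]
    (hns : ¬ Group.IsSolvable G) (hFC : IsFC G) :
    ∃ G₀ : Subgroup G, G₀.Normal ∧ (G₀.index = 1 ∨ G₀.index = 2) ∧
      ∃ S M : Subgroup G, S ⊔ M = G₀ ∧ S ⊓ M = ⊥ ∧ (∀ s ∈ S, ∀ x ∈ M, s * x = x * s) ∧
        Nonempty (S ≃* Matrix.SpecialLinearGroup (Fin 2) (ZMod 5)) ∧
        (∀ (p : ℕ) [Fact p.Prime] (P : Sylow p M), IsCyclic P) ∧ (Nat.card M).Coprime 30 := by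
  obtain ⟨S, hSn, hS1, hS⟩ := exists_perfect_normal hns
  obtain ⟨e⟩ := hFC.perfect_equiv hZ hS1 hS
  obtain ⟨G₀, h1, h2, M, h3, h4, h5, h6, h7⟩ := structure_of_normal_SL25 hFC.fc S e
  exact ⟨G₀, h1, h2, S, M, h3, h4, h5, ⟨e⟩, h6, h7⟩

end Cfsg.Agent.Lib.Helper32.FrobSL25
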