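import Mathlib
import Cfsg.Agent.S0044
import Cfsg.Agent.Lib.Lead.Cores
import Cfsg.Agent.Lib.Helper1.Fitting
import Cfsg.Agent.Lib.Helper32.FCSol4
import Cfsg.Agent.Lib.Helper32.FrobSL25

/-!
# Solvable Frobenius complements (helper32)

A solvable Frobenius complement `G` has a normal subgroup `N` all of whose Sylow subgroups are
cyclic such that `G / N` is trivial, a four-group, `A₄` or `S₄`.
-/

set_option autoImplicit false

namespace Cfsg.Agent.Lib.Helper32.FCSol

open Subgroup Cfsg.Agent.Lib.Helper66 Cfsg.Agent.Lib.Helper32.FrobSL25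

/-- a Frobenius complement has at most one involution -/
theorem _root_.Cfsg.Agent.Lib.Helper32.FrobSL25.IsFC.ui {G : Type*} [Group G] (h : IsFC G) :
    UI G := by
  obtain ⟨K, _, _, ρ, hinj, hfpf⟩ := h.exists_fpf
  have key : ∀ t : G, orderOf t = 2 → ∀ m : K, ρ t m = m⁻¹ := by
    intro t ht
    have ht1 : t ≠ 1 := by
      intro h1
      rw [h1, orderOf_one] at ht
      omega
    have ht2 : ∀ k : K, ρ t (ρ t k) = k := by
      intro k
      have h1 : t * t = 1 := by rw [← pow_two, ← ht]; exact pow_orderOf_eq_one t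
      have h2 : ρ t * ρ t = 1 := by rw [← map_mul, h1, map_one]
      have := congrArg (fun φ : MulAut K => φ k) h2
      simpa using this
    have hi : Function.Injective (fun k : K => k⁻¹ * ρ t k) := by
      intro k l hkl
      have hkl' : k⁻¹ * ρ t k = l⁻¹ * ρ t l := hkl
      have h1 : ρ t (l * k⁻¹) = l * k⁻¹ := by
        rw [map_mul, map_inv]
        have h2 : ρ t k = k * (l⁻¹ * ρ t l) := by rw [← hkl']; group
        rw [h2]; group
      have := hfpf t ht1 _ h1
      rw [mul_inv_eq_one] at this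
      exact this.symm
    have hs := Finite.surjective_of_injective hi
    intro m
    obtain ⟨k, rfl⟩ := hs m
    simp only [map_mul, map_inv, ht2, mul_inv_rev, inv_inv]
  intro x y hx hy
  apply hinj
  ext m
  rw [key x hx, key y hy]

theorem isCyclic_of_comap {G : Type*} [Group G] (K : Subgroup G) [K.Normal]
    (hK : Odd (Nat.card K)) (Nb : Subgroup (G ⧸ K)) (hc : IsCyclic Nb)
    (P : Subgroup (Nb.comap (QuotientGroup.mk' K))) (hP : IsPGroup 2 P) : IsCyclic P := by
  set φ : P →* Nb := ((QuotientGroup.mk' K).subgroupComap Nb).comp P.subtype with hφ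
  apply isCyclic_of_injective φ
  rw [injective_iff_map_eq_one]
  intro x hx
  have h1 : ((x : Nb.comap (QuotientGroup.mk' K)) : G) ∈ K := by
    rw [← QuotientGroup.eq_one_iff]
    exact congrArg Subtype.val hx
  have h2 : ((x : Nb.comap (QuotientGroup.mk' K)) : G) ^ Nat.card K = 1 := by
    have := pow_card_eq_one' (G := K) (x := ⟨_, h1⟩)
    exact congrArg Subtype.val this
  obtain ⟨k, hk⟩ := hP x
  have h3 : ((x : Nb.comap (QuotientGroup.mk' K)) : G) ^ 2 ^ k = 1 := by
    have := congrArg (fun y : P => ((y : Nb.comap (QuotientGroup.mk' K)) : G)) hk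
    simpa using this
  have h4 := eq_one_of_pow_eq_one_coprime
    (Nat.Coprime.pow_right k (Nat.coprime_two_right.mpr hK)) h2 h3
  apply Subtype.ext
  apply Subtype.ext
  exact h4

theorem Small.comap {G Y : Type*} [Group G] [Group Y] (π : G →* Y) (hπ : Function.Surjective π)
    {N : Subgroup Y} (h : Small N) : Small (N.comap π) := by
  rcases h with rfl | ⟨f, hf, rfl⟩ | ⟨f, hf, rfl⟩ | ⟨f, hf, rfl⟩
  · exact Or.inl (Subgroup.comap_top π)
  · exact Or.inr (Or.inl ⟨f.comp π, hf.comp hπ, (MonoidHom.comap_ker f π).symm⟩)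
  · exact Or.inr (Or.inr (Or.inl ⟨f.comp π, hf.comp hπ, (MonoidHom.comap_ker f π).symm⟩))
  · exact Or.inr (Or.inr (Or.inr ⟨f.comp π, hf.comp hπ, (MonoidHom.comap_ker f π).symm⟩))

theorem centralizer_pCore_le {Y : Type*} [Group Y] [Finite Y] [Group.IsSolvable Y]
    (hO : Cfsg.pPrimeCore 2 Y = ⊥) :
    centralizer (Cfsg.pCore 2 Y : Set Y) ≤ Cfsg.pCore 2 Y := by
  have h1 : Cfsg.fittingSubgroup Y = Cfsg.pCore 2 Y := by
    apply le_antisymm
    · rw [Cfsg.Agent.Lib.Helper1.fittingSubgroup_eq_iSup_pCore]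
      apply iSup_le
      intro r
      by_cases hr : (r : ℕ) = 2
      · rw [hr]
      · have h2 : Cfsg.pCore (r : ℕ) Y ≤ Cfsg.pPrimeCore 2 Y := by
          apply Cfsg.Agent.Lib.Lead.le_pPrimeCore inferInstance
          have : Fact (r : ℕ).Prime := ⟨r.2⟩
          obtain ⟨k, hk⟩ := IsPGroup.iff_card.mp (Cfsg.Agent.Lib.Lead.pCore_isPGroup (r : ℕ) Y)
          rw [hk]
          apply Nat.Coprime.pow_left
          exact (Nat.coprime_primes r.2 Nat.prime_two).2 hr
        rw [hO] at h2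
        exact h2.trans bot_le
    · have : Fact (Nat.Prime 2) := ⟨Nat.prime_two⟩
      exact Cfsg.Agent.Lib.Helper1.pCore_le_fittingSubgroup 2
  rw [← h1]
  exact Cfsg.Agent.S0044.result

/-- all Sylow subgroups are cyclic -/
def ZG {G : Type*} [Group G] (N : Subgroup G) : Prop :=
  ∀ (p : ℕ) [Fact p.Prime] (P : Sylow p N), IsCyclic P

theorem solvable_structure {G : Type*} [Group G] [Finite G] (h : FC G) (hu : UI G)
    [Group.IsSolvable G] : ∃ N : Subgroup G, N.Normal ∧ ZG N ∧ Small N := by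
  set K := Cfsg.pPrimeCore 2 G with hKdef
  have hK : Odd (Nat.card K) :=
    Nat.coprime_two_right.mp (Cfsg.Agent.Lib.Lead.card_pPrimeCore_coprime 2)
  have huY : UI (G ⧸ K) := hu.quotient K hK
  have hO : Cfsg.pPrimeCore 2 (G ⧸ K) = ⊥ := Cfsg.Agent.Lib.Lead.pPrimeCore_quotient_pPrimeCore 2 G
  obtain ⟨Nb, hNn, hNc, hNs⟩ := exists_cyclic_normal huY (Cfsg.pCore 2 (G ⧸ K))
    (Cfsg.Agent.Lib.Lead.pCore_isPGroup 2 _) (centralizer_pCore_le hO)
  refine ⟨Nb.comap (QuotientGroup.mk' K), inferInstance, ?_,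
    hNs.comap _ (QuotientGroup.mk'_surjective K)⟩
  intro p _ P
  rcases (FC.subgroup h _).cyclic_or_quaternion (P : Subgroup (Nb.comap (QuotientGroup.mk' K))) P.2
    with h1 | ⟨rfl, -⟩
  · exact h1
  · exact isCyclic_of_comap K hK Nb hNc _ P.2

end Cfsg.Agent.Lib.Helper32.FCSol
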