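import Mathlib
import Cfsg.Agent.Lib.Helper32.FCSol5

/-!
# Non-solvable Frobenius complements: the quotient `A₅` or `S₅` (helper32)

Modulo Zassenhaus' theorem S0690 (hypothesis `ZassHyp`).
-/

set_option autoImplicit false

namespace Cfsg.Agent.Lib.Helper32.FCSol

open Subgroup Cfsg.Agent.Lib.Helper66 Cfsg.Agent.Lib.Helper32.FrobSL25
  Cfsg.Agent.Lib.Helper32.AutSL25

variable {G : Type*} [Group G] [Finite G]

theorem not_four_dvd_card_centralizer (h : FC G) (S : Subgroup G) (e : S ≃* SL25) :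
    ¬ 4 ∣ Nat.card (centralizer (S : Set G)) := by
  set C := centralizer (S : Set G) with hC
  have hcardS : Nat.card S = 120 := by rw [Nat.card_congr e.toEquiv, card_SL25]
  have hZ2 : Nat.card (S ⊓ C : Subgroup G) = 2 := card_inf_centralizer S e
  have hZsq : ∀ x ∈ S ⊓ C, x ^ 2 = 1 := by
    intro x hx
    have := pow_card_eq_one' (G := (S ⊓ C : Subgroup G)) (x := ⟨x, hx⟩)
    rw [hZ2] at this
    exact congrArg Subtype.val this
  intro h4
  obtain ⟨t, htC, ht⟩ := FC.exists_orderOf_four h C h4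
  obtain ⟨i, hiS, hi⟩ := FC.exists_orderOf_four h S (by rw [hcardS]; norm_num)
  have hcomm : Commute i t := (mem_centralizer_iff.1 htC) i hiS
  have hi2 : orderOf (i ^ 2) = 2 := by
    rw [orderOf_pow' i (by norm_num), hi]; norm_num
  have ht2 : orderOf (t ^ 2) = 2 := by
    rw [orderOf_pow' t (by norm_num), ht]; norm_num
  have h1 : t ^ 2 = i ^ 2 := FC.eq_of_orderOf_two h hi2 ht2 ((hcomm.pow_left 2).pow_right 2)
  have hnot : i ∉ S ⊓ C := by
    intro hmem
    have := hZsq i hmem
    have h5 := orderOf_dvd_of_pow_eq_one this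
    rw [hi] at h5
    omega
  have hw2 : (i * t⁻¹) ^ 2 = 1 := by
    rw [(hcomm.inv_right).mul_pow, inv_pow, h1, mul_inv_cancel]
  by_cases hw : i * t⁻¹ = 1
  · apply hnot
    have : i = t := by rwa [mul_inv_eq_one] at hw
    exact mem_inf.2 ⟨hiS, this ▸ htC⟩
  · have hwo : orderOf (i * t⁻¹) = 2 := orderOf_eq_prime hw2 hw
    have hc2 : Commute (i ^ 2) (i * t⁻¹) :=
      ((Commute.refl i).mul_right hcomm.inv_right).pow_left 2
    have h6 := FC.eq_of_orderOf_two h hi2 hwo hc2
    apply hnot
    have h7 : t⁻¹ = i := by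
      have : i * t⁻¹ = i * i := by rw [h6, sq]
      exact mul_left_cancel this
    exact mem_inf.2 ⟨hiS, h7 ▸ C.inv_mem htC⟩

theorem zg_centralizer (h : FC G) (S : Subgroup G) (e : S ≃* SL25) :
    ZG (centralizer (S : Set G)) := by
  intro p _ P
  rcases (FC.subgroup h _).cyclic_or_quaternion (P : Subgroup (centralizer (S : Set G)))
    P.isPGroup' with h1 | ⟨-, n, ⟨f⟩⟩
  · exact h1
  · exfalso
    apply not_four_dvd_card_centralizer h S e
    have h2 : Nat.card (P : Subgroup (centralizer (S : Set G))) = 4 * 2 ^ n := by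
      have : NeZero (2 ^ n) := ⟨by positivity⟩
      rw [Nat.card_congr f.toEquiv, Nat.card_eq_fintype_card, QuaternionGroup.card]
    have h3 : Nat.card (P : Subgroup (centralizer (S : Set G))) ∣ _ := card_subgroup_dvd_card _
    rw [h2] at h3
    exact (Dvd.intro _ rfl).trans h3

theorem exists_PSL25_equiv : Nonempty (SL25 ⧸ center SL25 ≃* alternatingGroup (Fin 5)) := by
  have hs : IsSimpleGroup (SL25 ⧸ center SL25) :=
    Matrix.ProjectiveSpecialLinearGroup.rank_two_simple (F := ZMod 5) (by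
      rw [Nat.card_eq_fintype_card, ZMod.card]; norm_num)
  exact Cfsg.Agent.S0494.result (G := SL25 ⧸ center SL25) card_PSL25

/-- `Aut(SL(2,5))` embeds in `S₅` -/
theorem exists_mulAut_SL25_hom :
    ∃ ψ : MulAut SL25 →* Equiv.Perm (Fin 5), Function.Injective ψ := by
  obtain ⟨ε⟩ := exists_PSL25_equiv
  let κ : Equiv.Perm (Fin 5) ≃* MulAut (alternatingGroup (Fin 5)) :=
    MulEquiv.ofBijective _ (Cfsg.Agent.S2119.result 5 (by norm_num) (by norm_num))
  refine ⟨κ.symm.toMonoidHom.comp ((MulAut.congr ε).toMonoidHom.comp (autQuot SL25)), ?_⟩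
  exact κ.symm.injective.comp ((MulAut.congr ε).injective.comp
    (autQuot_injective SL25 commutator_SL25))

omit [Finite G] in
theorem exists_hom_S5 (S : Subgroup G) [S.Normal] (e : S ≃* SL25) :
    ∃ Φ : G →* Equiv.Perm (Fin 5), Φ.ker = centralizer (S : Set G) := by
  obtain ⟨ψ, hψ⟩ := exists_mulAut_SL25_hom
  refine ⟨ψ.comp ((MulAut.congr e).toMonoidHom.comp (MulAut.conjNormal : G →* MulAut S)), ?_⟩
  rw [← ker_conjNormal]
  ext x
  rw [MonoidHom.mem_ker, MonoidHom.mem_ker, MonoidHom.comp_apply, map_eq_one_iff ψ hψ,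
    MonoidHom.comp_apply]
  exact map_eq_one_iff _ (MulAut.congr e).injective

theorem index_centralizer (S : Subgroup G) [S.Normal] (e : S ≃* SL25) :
    (centralizer (S : Set G)).index = 60 ∨ (centralizer (S : Set G)).index = 120 := by
  set C := centralizer (S : Set G) with hC
  have hCn : C.Normal := by rw [hC, ← ker_conjNormal]; infer_instance
  have h2 : C.relIndex (S ⊔ C) * (S ⊔ C).index = C.index := relIndex_mul_index le_sup_right
  have h3 : C.relIndex (S ⊔ C) = 60 := by
    rw [relIndex_sup_right, ← inf_relIndex_right]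
    have h4 := relIndex_mul_relIndex ⊥ (C ⊓ S) S bot_le inf_le_right
    rw [relIndex_bot_left, relIndex_bot_left, inf_comm, card_inf_centralizer S e,
      Nat.card_congr e.toEquiv, card_SL25] at h4
    rw [inf_comm]
    omega
  rcases (Nat.dvd_prime Nat.prime_two).1 (index_sup_centralizer_dvd S e) with h1 | h1
  · left; rw [← h2, h3, h1]
  · right; rw [← h2, h3, h1]

/-- the conclusion: the quotient is `A₅` or `S₅` -/
def Large {Y : Type*} [Group Y] (N : Subgroup Y) : Prop :=
  (∃ f : Y →* alternatingGroup (Fin 5), Function.Surjective f ∧ f.ker = N) ∨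
    (∃ f : Y →* Equiv.Perm (Fin 5), Function.Surjective f ∧ f.ker = N)

theorem large_centralizer (S : Subgroup G) [S.Normal] (e : S ≃* SL25) :
    Large (centralizer (S : Set G)) := by
  obtain ⟨Φ, hΦ⟩ := exists_hom_S5 S e
  have hidx : (centralizer (S : Set G)).index = Nat.card Φ.range := by
    rw [← hΦ, index_ker]
  have hS5 : Nat.card (Equiv.Perm (Fin 5)) = 120 := by
    rw [Nat.card_eq_fintype_card, Fintype.card_perm, Fintype.card_fin]; rfl
  rcases index_centralizer S e with h1 | h1
  · left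
    have h2 : Φ.range.index = 2 := by
      have := Φ.range.card_mul_index
      rw [← hidx, h1, hS5] at this
      omega
    have h3 := Equiv.Perm.eq_alternatingGroup_of_index_eq_two h2
    refine ⟨Φ.codRestrict (alternatingGroup (Fin 5)) (fun x => by rw [← h3]; exact ⟨x, rfl⟩),
      ?_, ?_⟩
    · rintro ⟨y, hy⟩
      rw [← h3] at hy
      obtain ⟨x, rfl⟩ := hy
      exact ⟨x, rfl⟩
    · rw [MonoidHom.ker_codRestrict, hΦ]
  · right
    refine ⟨Φ, ?_, hΦ⟩
    rw [← MonoidHom.range_eq_top]
    apply Subgroup.eq_top_of_card_eq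
    rw [← hidx, h1, hS5]

theorem nonsolvable_structure (hZ : ZassHyp) (hns : ¬ Group.IsSolvable G) (hFC : IsFC G) :
    ∃ N : Subgroup G, N.Normal ∧ ZG N ∧ Large N := by
  obtain ⟨S, hSn, hS1, hS⟩ := exists_perfect_normal hns
  obtain ⟨e⟩ := hFC.perfect_equiv hZ hS1 hS
  exact ⟨centralizer (S : Set G), inferInstance, zg_centralizer hFC.fc S e, large_centralizer S e⟩

end Cfsg.Agent.Lib.Helper32.FCSol
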