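import Mathlib
import Cfsg.Agent.Lib.Helper32.FCUniq1
import Cfsg.Agent.Lib.Helper32.FCNonsol

/-!
# Uniqueness of the normal subgroup `N` of a Frobenius complement (helper32)
-/

set_option autoImplicit false

namespace Cfsg.Agent.Lib.Helper32.FCSol

open Subgroup Equiv

variable {G : Type*} [Group G] [Finite G]

theorem ZG.isZGroup {M : Subgroup G} (h : ZG M) : IsZGroup M :=
  ⟨fun p hp P => by have := Fact.mk hp; exact h p P⟩

theorem isZGroup_map {X : Type*} [Group X] (f : G →* X) (M : Subgroup G) [IsZGroup M] :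
    IsZGroup (M.map f) :=
  IsZGroup.of_surjective (f := f.subgroupMap M) (f.subgroupMap_surjective M)

theorem le_ker_perm4 (f : G →* Perm (Fin 4)) (hr : ∀ g : Perm (Fin 4), g * g ∈ f.range)
    (M : Subgroup G) [hM : M.Normal] [IsZGroup M] : M ≤ f.ker := by
  have := isZGroup_map f M
  rw [← Subgroup.map_eq_bot_iff]
  apply perm4_eq_bot _ _ (nk_of_isZGroup _)
  rintro g _ ⟨y, hy, rfl⟩
  obtain ⟨x, hx⟩ := hr g
  rw [← hx, ← map_inv, ← map_mul, ← map_mul]
  exact mem_map_of_mem f (hM.conj_mem y hy x)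

theorem sq_mem_alternatingGroup {n : ℕ} (g : Perm (Fin n)) : g * g ∈ alternatingGroup (Fin n) := by
  rw [Equiv.Perm.mem_alternatingGroup, map_mul, Int.units_mul_self]

theorem a5_not_nk :
    ((swap (0 : Fin 5) 1 * swap 2 3) * (swap (0 : Fin 5) 1 * swap 2 3) = 1 ∧
    (swap (0 : Fin 5) 2 * swap 1 3) * (swap (0 : Fin 5) 2 * swap 1 3) = 1 ∧
    (swap (0 : Fin 5) 1 * swap 2 3) * (swap (0 : Fin 5) 2 * swap 1 3) =
      (swap (0 : Fin 5) 2 * swap 1 3) * (swap (0 : Fin 5) 1 * swap 2 3)) ∧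
    swap (0 : Fin 5) 1 * swap 2 3 ≠ 1 ∧ swap (0 : Fin 5) 2 * swap 1 3 ≠ 1 ∧
    swap (0 : Fin 5) 1 * swap 2 3 ≠ swap (0 : Fin 5) 2 * swap 1 3 := by
  decide

theorem swap_mul_swap_mem {a b c d : Fin 5} (h1 : a ≠ b) (h2 : c ≠ d) :
    swap a b * swap c d ∈ alternatingGroup (Fin 5) := by
  rw [Equiv.Perm.mem_alternatingGroup, map_mul, Equiv.Perm.sign_swap h1, Equiv.Perm.sign_swap h2]
  rfl

theorem le_ker_perm5 (f : G →* Perm (Fin 5)) (hr : alternatingGroup (Fin 5) ≤ f.range)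
    (M : Subgroup G) [hM : M.Normal] [IsZGroup M] : M ≤ f.ker := by
  have := isZGroup_map f M
  have hNK : NK (M.map f) := nk_of_isZGroup _
  have hn : ∀ g ∈ alternatingGroup (Fin 5), ∀ m ∈ M.map f, g * m * g⁻¹ ∈ M.map f := by
    rintro g hg _ ⟨y, hy, rfl⟩
    obtain ⟨x, rfl⟩ := hr hg
    rw [← map_inv, ← map_mul, ← map_mul]
    exact mem_map_of_mem f (hM.conj_mem y hy x)
  have hnorm : ((M.map f).subgroupOf (alternatingGroup (Fin 5))).Normal := by
    constructor
    intro m hm g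
    rw [mem_subgroupOf] at hm ⊢
    exact hn g g.2 _ hm
  rw [← Subgroup.map_eq_bot_iff]
  rcases hnorm.eq_bot_or_eq_top with h1 | h1
  · rw [eq_bot_iff]
    intro m hm
    rw [mem_bot]
    have key : ∀ g ∈ alternatingGroup (Fin 5), m * g = g * m := by
      intro g hg
      have h2 : g * m * g⁻¹ * m⁻¹ ∈ M.map f := mul_mem (hn g hg m hm) (inv_mem hm)
      have h3 : g * m * g⁻¹ * m⁻¹ ∈ alternatingGroup (Fin 5) := by
        rw [Equiv.Perm.mem_alternatingGroup] at hg ⊢
        simp only [map_mul, map_inv, hg]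
        simp
      have h4 : (⟨_, h3⟩ : alternatingGroup (Fin 5)) ∈
          (M.map f).subgroupOf (alternatingGroup (Fin 5)) := by
        rw [mem_subgroupOf]; exact h2
      rw [h1, mem_bot] at h4
      have h5 : g * m * g⁻¹ * m⁻¹ = 1 := congrArg Subtype.val h4
      rw [mul_inv_eq_one, mul_inv_eq_iff_eq_mul] at h5
      exact h5.symm
    exact perm5_cent m (key _ (sq_mem_alternatingGroup _)) (key _ (sq_mem_alternatingGroup _))
  · exfalso
    have hle : alternatingGroup (Fin 5) ≤ M.map f := by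
      rw [← subgroupOf_eq_top]; exact h1
    obtain ⟨⟨e1, e2, e3⟩, e4, e5, e6⟩ := a5_not_nk
    rcases hNK _ (hle (swap_mul_swap_mem (by decide) (by decide))) _
      (hle (swap_mul_swap_mem (by decide) (by decide))) e1 e2 e3 with h | h | h
    · exact e4 h
    · exact e5 h
    · exact e6 h

theorem d2_not_nk : ((DihedralGroup.r 1 : DihedralGroup 2) * DihedralGroup.r 1 = 1 ∧
    (DihedralGroup.sr 0 : DihedralGroup 2) * DihedralGroup.sr 0 = 1 ∧
    (DihedralGroup.r 1 : DihedralGroup 2) * DihedralGroup.sr 0 =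
      DihedralGroup.sr 0 * DihedralGroup.r 1) ∧
    (DihedralGroup.r 1 : DihedralGroup 2) ≠ 1 ∧ (DihedralGroup.sr 0 : DihedralGroup 2) ≠ 1 ∧
    (DihedralGroup.r 1 : DihedralGroup 2) ≠ DihedralGroup.sr 0 := by
  decide

theorem d2_sq : ∀ x : DihedralGroup 2, x * x = 1 := by decide

theorem not_isZGroup_of_d2 (f : G →* DihedralGroup 2) (hf : Function.Surjective f) :
    ¬ IsZGroup G := by
  intro h
  have h1 : IsZGroup (DihedralGroup 2) := IsZGroup.of_surjective hf
  obtain ⟨⟨e1, e2, e3⟩, e4, e5, e6⟩ := d2_not_nk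
  rcases nk_aux _ _ e1 e2 e3 with h | h | h
  · exact e4 h
  · exact e5 h
  · exact e6 h

end Cfsg.Agent.Lib.Helper32.FCSol
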