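import Mathlib
import Cfsg.Agent.Lib.Helper32.FCUniq2

/-!
# Uniqueness of the normal subgroup `N` of a Frobenius complement, II (helper32)
-/

set_option autoImplicit false

namespace Cfsg.Agent.Lib.Helper32.FCSol

open Subgroup Equiv QuaternionGroup

theorem pow_eq_one_or_self {E : Type*} [Group E] {α : E} (h : α * α = 1) (k : ℕ) :
    α ^ k = 1 ∨ α ^ k = α := by
  induction k with
  | zero => left; simp
  | succ k ih =>
    rcases ih with h1 | h1
    · right; rw [pow_succ, h1, one_mul]
    · left; rw [pow_succ, h1, h]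

theorem card_le_four_of_forall {E : Type*} [Finite E] (a b c d : E)
    (h : ∀ x : E, x = a ∨ x = b ∨ x = c ∨ x = d) : Nat.card E ≤ 4 := by
  classical
  have := Fintype.ofFinite E
  rw [Nat.card_eq_fintype_card, ← Finset.card_univ]
  have h1 : (Finset.univ : Finset E) ⊆ {a, b, c, d} := by
    intro x _
    simp only [Finset.mem_insert, Finset.mem_singleton]
    exact h x
  exact (Finset.card_le_card h1).trans Finset.card_le_four

variable {G : Type*} [Group G] [Finite G]

/-- a quotient of exponent two of a group with at most one involution has order at most four -/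
theorem index_le_four (hu : UI G) (D : Subgroup G) [D.Normal] (hD : ∀ g : G, g * g ∈ D) :
    D.index ≤ 4 := by
  have : Fact (Nat.Prime 2) := ⟨Nat.prime_two⟩
  have hsq : ∀ x : G ⧸ D, x * x = 1 := by
    intro x
    obtain ⟨g, rfl⟩ := QuotientGroup.mk_surjective x
    rw [← QuotientGroup.mk_mul]
    exact (QuotientGroup.eq_one_iff _).2 (hD g)
  have hp : IsPGroup 2 (G ⧸ D) := fun x => ⟨1, by rw [pow_one, pow_two]; exact hsq x⟩
  obtain ⟨k, hk⟩ := IsPGroup.iff_card.mp hp
  obtain ⟨Q⟩ : Nonempty (Sylow 2 G) := inferInstance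
  have htop : (Q : Subgroup G).map (QuotientGroup.mk' D) = ⊤ := by
    rw [← index_eq_one]
    have h1 : ((Q : Subgroup G).map (QuotientGroup.mk' D)).index ∣ (Q : Subgroup G).index :=
      index_map_dvd _ (QuotientGroup.mk'_surjective D)
    have h2 : ((Q : Subgroup G).map (QuotientGroup.mk' D)).index ∣ 2 ^ k := by
      rw [← hk]; exact index_dvd_card _
    have h3 : Nat.Coprime (Q : Subgroup G).index (2 ^ k) := by
      apply Nat.Coprime.pow_right
      exact ((Nat.Prime.coprime_iff_not_dvd Nat.prime_two).2 Q.not_dvd_index).symm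
    exact Nat.eq_one_of_dvd_coprimes h3 h1 h2
  have hall : ∀ x : G ⧸ D, ∃ q ∈ (Q : Subgroup G), QuotientGroup.mk' D q = x := by
    intro x
    have : x ∈ (Q : Subgroup G).map (QuotientGroup.mk' D) := by rw [htop]; trivial
    exact this
  change Nat.card (G ⧸ D) ≤ 4
  rcases hu.cyclic_or_quaternion (Q : Subgroup G) Q.2 with hc | ⟨n, ⟨e⟩⟩
  · obtain ⟨g, hg⟩ := hc.exists_generator
    apply card_le_four_of_forall 1 (QuotientGroup.mk' D g) 1 1
    intro x
    obtain ⟨q, hq, rfl⟩ := hall x
    have h1 : (⟨q, hq⟩ : (Q : Subgroup G)) ∈ Submonoid.powers g :=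
      (mem_powers_iff_mem_zpowers).2 (hg ⟨q, hq⟩)
    obtain ⟨j, hj⟩ := h1
    have h2 : q = (g : G) ^ j := by
      have := congrArg Subtype.val hj
      simpa using this.symm
    rw [h2, map_pow]
    rcases pow_eq_one_or_self (hsq (QuotientGroup.mk' D g)) j with h | h
    · exact Or.inl h
    · exact Or.inr (Or.inl h)
  · set ψ : QuaternionGroup (2 ^ (n + 1)) →* G ⧸ D :=
      ((QuotientGroup.mk' D).comp (Q : Subgroup G).subtype).comp e.symm.toMonoidHom with hψ
    apply card_le_four_of_forall 1 (ψ (a 1)) (ψ (xa 0)) (ψ (xa 0) * ψ (a 1))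
    intro x
    obtain ⟨q, hq, rfl⟩ := hall x
    have h1 : QuotientGroup.mk' D q = ψ (e ⟨q, hq⟩) := by
      simp [hψ]
    rw [h1]
    have ha : ∀ i : ZMod (2 * 2 ^ (n + 1)), ψ (a i) = 1 ∨ ψ (a i) = ψ (a 1) := by
      intro i
      have h2 : (a i : QuaternionGroup (2 ^ (n + 1))) = a 1 ^ i.val := by
        rw [a_one_pow, ZMod.natCast_zmod_val]
      rw [h2, map_pow]
      exact pow_eq_one_or_self (hsq _) _
    rcases e ⟨q, hq⟩ with i | i
    · rcases ha i with h | h
      · exact Or.inl h
      · exact Or.inr (Or.inl h)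
    · have h2 : (xa i : QuaternionGroup (2 ^ (n + 1))) = xa 0 * a i := by
        rw [xa_mul_a, zero_add]
      rw [h2, map_mul]
      rcases ha i with h | h
      · rw [h, mul_one]; exact Or.inr (Or.inr (Or.inl rfl))
      · rw [h]; exact Or.inr (Or.inr (Or.inr rfl))

/-- absorbing: contains all normal subgroups with cyclic Sylow subgroups -/
def Absorbing (N : Subgroup G) : Prop :=
  (∀ M : Subgroup G, M.Normal → ZG M → M ≤ N) ∧ (N.index ∣ 4 → N = ⊤)

/-- four-group quotient -/
def FourType (N : Subgroup G) : Prop :=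
  N.index = 4 ∧ (∀ g : G, g * g ∈ N) ∧ ¬ ZG (⊤ : Subgroup G)

omit [Finite G] in
theorem index_of_surjective {X : Type*} [Group X] (f : G →* X) (hf : Function.Surjective f) :
    f.ker.index = Nat.card X := by
  rw [index_ker, MonoidHom.range_eq_top.2 hf, Subgroup.card_top]

theorem absorbing_or_fourType {N : Subgroup G} (h : Small N ∨ Large N) :
    Absorbing N ∨ FourType N := by
  rcases h with (rfl | ⟨f, hf, rfl⟩ | ⟨f, hf, rfl⟩ | ⟨f, hf, rfl⟩) | (⟨f, hf, rfl⟩ | ⟨f, hf, rfl⟩)
  · exact Or.inl ⟨fun M _ _ => le_top, fun _ => rfl⟩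
  · right
    refine ⟨?_, ?_, ?_⟩
    · rw [index_of_surjective f hf, Nat.card_eq_fintype_card, DihedralGroup.card]
    · intro g
      rw [MonoidHom.mem_ker, map_mul]
      exact d2_sq _
    · intro hZ
      have h1 : IsZGroup (⊤ : Subgroup G) := hZ.isZGroup
      have h2 : IsZGroup G := IsZGroup.of_surjective (f := (⊤ : Subgroup G).subtype)
        (fun g => ⟨⟨g, trivial⟩, rfl⟩)
      exact not_isZGroup_of_d2 f hf h2
  · left
    refine ⟨fun M hM hZ => ?_, fun h4 => ?_⟩
    · have := hZ.isZGroup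
      have h1 := le_ker_perm4 ((alternatingGroup (Fin 4)).subtype.comp f) (by
        intro g
        obtain ⟨x, hx⟩ := hf ⟨g * g, sq_mem_alternatingGroup g⟩
        exact ⟨x, by rw [MonoidHom.comp_apply, hx]; rfl⟩) M
      intro x hx
      have h2 := h1 hx
      rw [MonoidHom.mem_ker, MonoidHom.comp_apply] at h2
      rw [MonoidHom.mem_ker]
      exact Subtype.ext h2
    · exfalso
      rw [index_of_surjective f hf, Nat.card_eq_fintype_card] at h4
      have h5 : Fintype.card (alternatingGroup (Fin 4)) = 12 := by decide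
      rw [h5] at h4
      omega
  · left
    refine ⟨fun M hM hZ => ?_, fun h4 => ?_⟩
    · have := hZ.isZGroup
      exact le_ker_perm4 f (fun g => hf _) M
    · exfalso
      rw [index_of_surjective f hf, Nat.card_eq_fintype_card, Fintype.card_perm,
        Fintype.card_fin, show Nat.factorial 4 = 24 from rfl] at h4
      omega
  · left
    refine ⟨fun M hM hZ => ?_, fun h4 => ?_⟩
    · have := hZ.isZGroup
      have h1 := le_ker_perm5 ((alternatingGroup (Fin 5)).subtype.comp f) (by
        intro g hg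
        obtain ⟨x, hx⟩ := hf ⟨g, hg⟩
        exact ⟨x, by rw [MonoidHom.comp_apply, hx]; rfl⟩) M
      intro x hx
      have h2 := h1 hx
      rw [MonoidHom.mem_ker, MonoidHom.comp_apply] at h2
      rw [MonoidHom.mem_ker]
      exact Subtype.ext h2
    · exfalso
      rw [index_of_surjective f hf] at h4
      have h5 : Nat.card (alternatingGroup (Fin 5)) = 60 := by
        have h6 := (alternatingGroup (Fin 5)).card_mul_index
        rw [alternatingGroup.index_eq_two, Nat.card_eq_fintype_card (α := Perm (Fin 5)),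
          Fintype.card_perm, Fintype.card_fin] at h6
        have : Nat.factorial 5 = 120 := rfl
        omega
      rw [h5] at h4
      omega
  · left
    refine ⟨fun M hM hZ => ?_, fun h4 => ?_⟩
    · have := hZ.isZGroup
      exact le_ker_perm5 f (fun g _ => hf _) M
    · exfalso
      rw [index_of_surjective f hf, Nat.card_eq_fintype_card, Fintype.card_perm,
        Fintype.card_fin, show Nat.factorial 5 = 120 from rfl] at h4
      omega

theorem eq_of_list (hu : UI G) {N₁ N₂ : Subgroup G} (hn₁ : N₁.Normal) (hn₂ : N₂.Normal)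
    (hz₁ : ZG N₁) (hz₂ : ZG N₂) (h₁ : Small N₁ ∨ Large N₁) (h₂ : Small N₂ ∨ Large N₂) :
    N₁ = N₂ := by
  have key : ∀ {A B : Subgroup G}, A.Normal → B.Normal → ZG A → ZG B → Absorbing A → FourType B →
      False := by
    intro A B _ hB hzA hzB hA hF
    have h1 : B ≤ A := hA.1 B hB hzB
    have h2 : A.index ∣ 4 := by rw [← hF.1]; exact index_dvd_of_le h1
    have h3 := hA.2 h2
    rw [h3] at hzA
    exact hF.2.2 hzA
  rcases absorbing_or_fourType h₁ with a₁ | f₁ <;> rcases absorbing_or_fourType h₂ with a₂ | f₂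
  · exact le_antisymm (a₂.1 N₁ hn₁ hz₁) (a₁.1 N₂ hn₂ hz₂)
  · exact (key hn₁ hn₂ hz₁ hz₂ a₁ f₂).elim
  · exact (key hn₂ hn₁ hz₂ hz₁ a₂ f₁).elim
  · have hD : (N₁ ⊓ N₂).index ≤ 4 :=
      index_le_four hu (N₁ ⊓ N₂) (fun g => mem_inf.2 ⟨f₁.2.1 g, f₂.2.1 g⟩)
    have aux : ∀ {A : Subgroup G}, N₁ ⊓ N₂ ≤ A → A.index = 4 → A ≤ N₁ ⊓ N₂ := by
      intro A hle hA
      rw [← relIndex_eq_one]
      have h1 := relIndex_mul_index hle
      rw [hA] at h1
      have h2 : (N₁ ⊓ N₂).relIndex A ≠ 0 := by
        intro h0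
        rw [h0, zero_mul] at h1
        exact (N₁ ⊓ N₂).index_ne_zero_of_finite h1.symm
      omega
    have e1 := aux inf_le_left f₁.1
    have e2 := aux inf_le_right f₂.1
    exact le_antisymm (e1.trans inf_le_right) (e2.trans inf_le_left)

end Cfsg.Agent.Lib.Helper32.FCSol
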