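import Mathlib
import Cfsg.Agent.Lib.Helper32.FCUniq3

/-!
# The six types of Frobenius complements, modulo S0690 (helper32)
-/

set_option autoImplicit false

namespace Cfsg.Agent.Lib.Helper32.FCSol

open Subgroup Cfsg.Agent.Lib.Helper32.FrobSL25

/-- S4291 modulo S0690. -/
theorem six_types (hZ : ZassHyp) {G : Type*} [Group G] [Finite G] (hFC : IsFC G) :
    ∃! N : Subgroup G, N.Normal ∧ (∀ (p : ℕ) [Fact p.Prime] (P : Sylow p N), IsCyclic P) ∧
      (N = ⊤ ∨
        (∃ f : G →* DihedralGroup 2, Function.Surjective f ∧ f.ker = N) ∨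
        (∃ f : G →* alternatingGroup (Fin 4), Function.Surjective f ∧ f.ker = N) ∨
        (∃ f : G →* Equiv.Perm (Fin 4), Function.Surjective f ∧ f.ker = N) ∨
        (∃ f : G →* alternatingGroup (Fin 5), Function.Surjective f ∧ f.ker = N) ∨
        (∃ f : G →* Equiv.Perm (Fin 5), Function.Surjective f ∧ f.ker = N)) := by
  have conv : ∀ N : Subgroup G, (N = ⊤ ∨
        (∃ f : G →* DihedralGroup 2, Function.Surjective f ∧ f.ker = N) ∨
        (∃ f : G →* alternatingGroup (Fin 4), Function.Surjective f ∧ f.ker = N) ∨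
        (∃ f : G →* Equiv.Perm (Fin 4), Function.Surjective f ∧ f.ker = N) ∨
        (∃ f : G →* alternatingGroup (Fin 5), Function.Surjective f ∧ f.ker = N) ∨
        (∃ f : G →* Equiv.Perm (Fin 5), Function.Surjective f ∧ f.ker = N)) ↔
      (FCSol.Small N ∨ Large N) := by
    intro N
    unfold FCSol.Small Large
    constructor
    · rintro (h | h | h | h | h | h)
      · exact Or.inl (Or.inl h)
      · exact Or.inl (Or.inr (Or.inl h))
      · exact Or.inl (Or.inr (Or.inr (Or.inl h)))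
      · exact Or.inl (Or.inr (Or.inr (Or.inr h)))
      · exact Or.inr (Or.inl h)
      · exact Or.inr (Or.inr h)
    · rintro ((h | h | h | h) | (h | h))
      · exact Or.inl h
      · exact Or.inr (Or.inl h)
      · exact Or.inr (Or.inr (Or.inl h))
      · exact Or.inr (Or.inr (Or.inr (Or.inl h)))
      · exact Or.inr (Or.inr (Or.inr (Or.inr (Or.inl h))))
      · exact Or.inr (Or.inr (Or.inr (Or.inr (Or.inr h))))
  have hex : ∃ N : Subgroup G, N.Normal ∧ ZG N ∧ (FCSol.Small N ∨ Large N) := by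
    by_cases hs : Group.IsSolvable G
    · obtain ⟨N, h1, h2, h3⟩ := solvable_structure hFC.fc hFC.ui
      exact ⟨N, h1, h2, Or.inl h3⟩
    · obtain ⟨N, h1, h2, h3⟩ := nonsolvable_structure hZ hs hFC
      exact ⟨N, h1, h2, Or.inr h3⟩
  obtain ⟨N, h1, h2, h3⟩ := hex
  refine ⟨N, ⟨h1, h2, (conv N).2 h3⟩, ?_⟩
  rintro N' ⟨h1', h2', h3'⟩
  exact eq_of_list hFC.ui h1' h1 h2' h2 ((conv N').1 h3') h3

end Cfsg.Agent.Lib.Helper32.FCSol
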