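import Mathlib
import Cfsg.Prelude
import Cfsg.Agent.S0022
import Cfsg.Agent.S0033
import Cfsg.Agent.Lib.Helper52.Commutators
import Cfsg.Agent.Lib.Helper1.Tools

set_option autoImplicit false

/-! Reduction of the Frobenius fixed point formula (S1545) to its module version (helper32). -/

namespace Cfsg.Agent.Lib.Helper32.FrobRed

open Subgroup

universe u

/-- The module version of the formula (statement of `Helper29.module_formula`). -/
def ModuleFormula : Prop :=
  ∀ (G V : Type u) [Group G] [Finite G] [AddCommGroup V] [Finite V] [DistribMulAction G V]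
    (K R : Subgroup G), (∀ r ∈ R, ∀ k ∈ K, r * k * r⁻¹ ∈ K) →
    (∀ r ∈ R, r ≠ 1 → ∀ k ∈ K, r * k = k * r → k = 1) → Group.IsSolvable K →
    (Nat.card K * Nat.card R).Coprime (Nat.card V) →
    Nat.card {v : V // ∀ g ∈ K ⊔ R, g • v = v} ^ Nat.card R * Nat.card V =
      Nat.card {v : V // ∀ g ∈ R, g • v = v} ^ Nat.card R *
        Nat.card {v : V // ∀ g ∈ K, g • v = v}

/-- Functoriality of the abelianization on automorphisms. -/
noncomputable def abAut (H : Type*) [Group H] : MulAut H →* MulAut (Abelianization H) where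
  toFun e := e.abelianizationCongr
  map_one' := abelianizationCongr_refl
  map_mul' e f := (abelianizationCongr_trans f e).symm

theorem abAut_of {H : Type*} [Group H] (e : MulAut H) (x : H) :
    abAut H e (Abelianization.of x) = Abelianization.of (e x) := rfl

/-- The additive action attached to an action by automorphisms on a commutative group. -/
@[reducible] noncomputable def addAct {G M : Type*} [Group G] [CommGroup M] (ψ : G →* MulAut M) :
    DistribMulAction G (Additive M) where
  smul g v := Additive.ofMul (ψ g (Additive.toMul v))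
  one_smul v := by
    show Additive.ofMul (ψ 1 (Additive.toMul v)) = v
    simp
  mul_smul a b v := by
    show Additive.ofMul (ψ (a * b) (Additive.toMul v)) =
      Additive.ofMul (ψ a (Additive.toMul (Additive.ofMul (ψ b (Additive.toMul v)))))
    simp
  smul_zero a := by
    show Additive.ofMul (ψ a (Additive.toMul 0)) = 0
    simp
  smul_add a v w := by
    show Additive.ofMul (ψ a (Additive.toMul (v + w))) =
      Additive.ofMul (ψ a (Additive.toMul v)) + Additive.ofMul (ψ a (Additive.toMul w))
    simp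

variable {X : Type u} [Group X]

/-- The action of `A ≤ N(H)` on `H/H'`. -/
noncomputable def actHom (A H : Subgroup X) (hAH : A ≤ normalizer (H : Set X)) :
    ↥A →* MulAut (Abelianization ↥H) :=
  (abAut ↥H).comp ((normalizerMonoidHom H).comp (inclusion hAH))

theorem actHom_of (A H : Subgroup X) (hAH : A ≤ normalizer (H : Set X)) (a : ↥A) (h : ↥H) :
    actHom A H hAH a (Abelianization.of h) =
      Abelianization.of ⟨(a : X) * h * (a : X)⁻¹, ((hAH a.2) h).mp h.2⟩ := rfl

theorem mem_commutator_iff (H : Subgroup X) (h : ↥H) :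
    h ∈ commutator ↥H ↔ (h : X) ∈ ⁅H, H⁆ := by
  have : (⁅H, H⁆ : Subgroup X) = (commutator ↥H).map H.subtype := by
    conv_lhs => rw [← H.range_subtype, MonoidHom.range_eq_map, ← map_commutator]
    rfl
  rw [this, mem_map]
  constructor
  · intro hh
    exact ⟨h, hh, rfl⟩
  · rintro ⟨y, hy, hyh⟩
    have : y = h := Subtype.ext hyh
    rwa [← this]

theorem of_eq_of_iff (H : Subgroup X) (h k : ↥H) :
    Abelianization.of h = Abelianization.of k ↔ (h : X)⁻¹ * k ∈ ⁅H, H⁆ := by
  have : (Abelianization.of h = Abelianization.of k) ↔ h⁻¹ * k ∈ commutator ↥H :=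
    QuotientGroup.eq
  rw [this, mem_commutator_iff]
  rfl

theorem commutator_self_le (H : Subgroup X) : ⁅H, H⁆ ≤ H :=
  commutator_le.2 fun _ ha _ hb => H.mul_mem (H.mul_mem (H.mul_mem ha hb) (H.inv_mem ha))
    (H.inv_mem hb)

variable [Finite X]

/-- The fixed points of `B` on `H/H'` are the images of `C_H(B)`; counting version. -/
theorem card_fix (A H : Subgroup X) (hAH : A ≤ normalizer (H : Set X))
    (hcop : (Nat.card A).Coprime (Nat.card H)) (hsolv : Group.IsSolvable H)
    (B : Subgroup X) (hBA : B ≤ A) :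
    letI := addAct (actHom A H hAH)
    Nat.card ↥(H ⊓ centralizer (B : Set X)) =
      Nat.card ↥(⁅H, H⁆ ⊓ centralizer (B : Set X)) *
        Nat.card {v : Additive (Abelianization ↥H) // ∀ g ∈ B.subgroupOf A, g • v = v} := by
  let _ := addAct (actHom A H hAH)
  let f : ↥(H ⊓ centralizer (B : Set X)) →* Abelianization ↥H :=
    Abelianization.of.comp (inclusion inf_le_left)
  have h1 : Nat.card ↥(H ⊓ centralizer (B : Set X)) = Nat.card f.ker * Nat.card f.range := by
    rw [← Subgroup.index_ker f, Subgroup.card_mul_index]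
  have h2 : Nat.card f.ker = Nat.card ↥(⁅H, H⁆ ⊓ centralizer (B : Set X)) := by
    have : f.ker.map (H ⊓ centralizer (B : Set X)).subtype = ⁅H, H⁆ ⊓ centralizer (B : Set X) := by
      ext x
      rw [mem_map]
      constructor
      · rintro ⟨y, hy, rfl⟩
        have hy1 : Abelianization.of (inclusion inf_le_left y : ↥H) = Abelianization.of 1 := by
          rw [map_one]; exact hy
        rw [of_eq_of_iff] at hy1
        refine mem_inf.2 ⟨?_, (mem_inf.1 y.2).2⟩
        have := (⁅H, H⁆ : Subgroup X).inv_mem hy1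
        simpa using this
      · intro hx
        have hxH : x ∈ H := commutator_self_le H (mem_inf.1 hx).1
        refine ⟨⟨x, mem_inf.2 ⟨hxH, (mem_inf.1 hx).2⟩⟩, ?_, rfl⟩
        rw [MonoidHom.mem_ker]
        have : Abelianization.of (⟨x, hxH⟩ : ↥H) = Abelianization.of 1 := by
          rw [of_eq_of_iff]
          have := (⁅H, H⁆ : Subgroup X).inv_mem (mem_inf.1 hx).1
          simpa using this
        rw [map_one] at this
        exact this
    rw [← this, Subgroup.card_map_of_injective (Subgroup.subtype_injective _)]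
  have h3 : Nat.card f.range =
      Nat.card {v : Additive (Abelianization ↥H) // ∀ g ∈ B.subgroupOf A, g • v = v} := by
    refine Nat.card_congr (Equiv.subtypeEquiv Additive.ofMul ?_)
    intro m
    constructor
    · rintro ⟨y, rfl⟩ g hg
      show Additive.ofMul (actHom A H hAH g (Abelianization.of (inclusion inf_le_left y))) =
        Additive.ofMul (Abelianization.of (inclusion inf_le_left y))
      rw [actHom_of]
      have hc := mem_centralizer_iff.1 (mem_inf.1 y.2).2 (g : X) (mem_subgroupOf.1 hg)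
      have : (⟨(g : X) * (inclusion inf_le_left y : ↥H) * (g : X)⁻¹,
          ((hAH g.2) (inclusion inf_le_left y : ↥H)).mp (inclusion inf_le_left y : ↥H).2⟩ : ↥H) =
          inclusion inf_le_left y := by
        apply Subtype.ext
        show (g : X) * (y : X) * (g : X)⁻¹ = (y : X)
        rw [hc, mul_inv_cancel_right]
      rw [this]
    · intro hfix
      obtain ⟨h, rfl⟩ : ∃ h : ↥H, Abelianization.of h = m := QuotientGroup.mk_surjective m
      have hBH : B ≤ normalizer (H : Set X) := hBA.trans hAH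
      have hfix' : ∀ a ∈ B, a * (h : X) * a⁻¹ * (h : X)⁻¹ ∈ ⁅H, H⁆ := by
        intro a ha
        have h4 := hfix ⟨a, hBA ha⟩ (mem_subgroupOf.2 ha)
        have h5 : actHom A H hAH ⟨a, hBA ha⟩ (Abelianization.of h) = Abelianization.of h :=
          Additive.ofMul.injective h4
        rw [actHom_of, eq_comm, of_eq_of_iff] at h5
        have h6 : (h : X) * ((h : X)⁻¹ * (a * (h : X) * a⁻¹)) * (h : X)⁻¹ ∈ ⁅H, H⁆ := by
          have hn := Cfsg.Agent.Lib.Helper52.le_normalizer_commutator
            (le_normalizer : H ≤ normalizer (H : Set X)) (le_normalizer : H ≤ normalizer (H : Set X)) h.2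
          exact (mem_normalizer_iff.1 hn _).1 h5
        simpa [mul_assoc] using h6
      obtain ⟨c, hc, hcN⟩ := Cfsg.Agent.S0022.result B H hBH
        (Nat.Coprime.coprime_dvd_left (Subgroup.card_dvd_of_le hBA) hcop) (Or.inr hsolv)
        ⁅H, H⁆ (commutator_self_le H)
        (Cfsg.Agent.Lib.Helper52.le_normalizer_commutator le_normalizer le_normalizer)
        (Cfsg.Agent.Lib.Helper52.le_normalizer_commutator hBH hBH) (h : X) h.2 hfix'
      refine ⟨⟨c, hc⟩, ?_⟩
      show Abelianization.of (⟨c, (mem_inf.1 hc).1⟩ : ↥H) = Abelianization.of h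
      rw [eq_comm, of_eq_of_iff]
      exact hcN
  rw [h1, h2, h3]

/-- The kernel of the Frobenius action is solvable (Thompson). -/
theorem solvable_kernel (U E : Subgroup X) (hU1 : U ≠ ⊥) (hE1 : E ≠ ⊥)
    (hUn : ∀ e ∈ E, ∀ u ∈ U, e * u * e⁻¹ ∈ U)
    (hfpf : ∀ e ∈ E, e ≠ 1 → ∀ u ∈ U, e * u = u * e → u = 1) : Group.IsSolvable U := by
  have hEU : E ≤ normalizer (U : Set X) := le_normalizer_iff.2 hUn
  have hcard : Nat.card E ≠ 1 := by
    intro h
    exact hE1 (Subgroup.card_eq_one.1 h)
  obtain ⟨p, hp, hpd⟩ := Nat.exists_prime_and_dvd hcard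
  have : Fact p.Prime := ⟨hp⟩
  obtain ⟨e, he⟩ := exists_prime_orderOf_dvd_card' p hpd
  have he1 : (e : X) ≠ 1 := by
    intro h
    have : e = 1 := Subtype.ext h
    rw [this, orderOf_one] at he
    exact hp.one_lt.ne he
  let φ : ↥U ≃* ↥U := normalizerMonoidHom U ⟨(e : X), hEU e.2⟩
  have hφa : ∀ u : ↥U, ((φ u : ↥U) : X) = (e : X) * u * (e : X)⁻¹ := fun u => rfl
  have hfix : MonoidHom.FixedPointFree (φ : ↥U →* ↥U) := by
    intro u hu
    have h1 : (e : X) * u * (e : X)⁻¹ = u := by
      rw [← hφa]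
      exact congrArg Subtype.val hu
    apply Subtype.ext
    exact hfpf e e.2 he1 u u.2 (mul_inv_eq_iff_eq_mul.1 h1)
  have hpow : φ ^ p = 1 := by
    show (normalizerMonoidHom U ⟨(e : X), hEU e.2⟩) ^ p = 1
    rw [← map_pow]
    have : (⟨(e : X), hEU e.2⟩ : ↥(normalizer (U : Set X))) ^ p = 1 := by
      apply Subtype.ext
      show (e : X) ^ p = 1
      have := pow_orderOf_eq_one e
      rw [he] at this
      exact_mod_cast congrArg Subtype.val this
    rw [this, map_one]
  have hord : orderOf φ = p := by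
    rcases (Nat.dvd_prime hp).1 (orderOf_dvd_of_pow_eq_one hpow) with h | h
    · exfalso
      rw [orderOf_eq_one_iff] at h
      apply hU1
      rw [eq_bot_iff]
      intro u hu
      have := hfix ⟨u, hu⟩ (by rw [h]; rfl)
      exact congrArg Subtype.val this
    · exact h
  have := Cfsg.Agent.S0033.result φ hfix p hp hord
  infer_instance

omit [Finite X] in
theorem card_subgroupOf_of_le {B A : Subgroup X} (h : B ≤ A) :
    Nat.card ↥(B.subgroupOf A) = Nat.card B :=
  Nat.card_congr (Subgroup.subgroupOfEquivOfLe h).toEquiv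

theorem formula_aux (hMF : ModuleFormula.{u}) (U E : Subgroup X) (hU1 : U ≠ ⊥) (hE1 : E ≠ ⊥)
    (hUn : ∀ e ∈ E, ∀ u ∈ U, e * u * e⁻¹ ∈ U)
    (hfpf : ∀ e ∈ E, e ≠ 1 → ∀ u ∈ U, e * u = u * e → u = 1) :
    ∀ (n : ℕ) (H : Subgroup X), Nat.card H = n → U ⊔ E ≤ normalizer (H : Set X) →
      Group.IsSolvable H → Nat.Coprime (Nat.card H) (Nat.card ↥(U ⊔ E)) →
      Nat.card ↥(H ⊓ centralizer ((U ⊔ E : Subgroup X) : Set X)) ^ Nat.card E * Nat.card H =
        Nat.card ↥(H ⊓ centralizer (E : Set X)) ^ Nat.card E *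
          Nat.card ↥(H ⊓ centralizer (U : Set X)) := by
  intro n
  induction n using Nat.strong_induction_on with
  | _ n ih =>
    intro H hn hAH hsolv hcop
    by_cases hH : H = ⊥
    · subst hH
      simp
    have hlt : ⁅H, H⁆ < H := by
      have hnt : Nontrivial ↥H := (nontrivial_iff_ne_bot H).2 hH
      have h1 := Group.IsSolvable.commutator_lt_top_of_nontrivial ↥H
      refine lt_of_le_of_ne (commutator_self_le H) ?_
      intro heq
      apply h1.ne
      rw [eq_top_iff]
      intro x _
      rw [mem_commutator_iff, heq]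
      exact x.2
    have hsolv' : Group.IsSolvable ↥(⁅H, H⁆ : Subgroup X) :=
      Group.isSolvable_of_isSolvable_injective (Subgroup.inclusion_injective hlt.le)
    have ih' := ih (Nat.card ↥(⁅H, H⁆ : Subgroup X))
      (by rw [← hn]; exact Cfsg.Agent.Lib.Helper1.card_lt_of_lt hlt) ⁅H, H⁆ rfl
      (Cfsg.Agent.Lib.Helper52.le_normalizer_commutator hAH hAH) hsolv'
      (Nat.Coprime.coprime_dvd_left (Subgroup.card_dvd_of_le hlt.le) hcop)
    let _ := addAct (actHom (U ⊔ E) H hAH)
    have cA := card_fix (U ⊔ E) H hAH hcop.symm hsolv (U ⊔ E) le_rfl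
    have cE := card_fix (U ⊔ E) H hAH hcop.symm hsolv E le_sup_right
    have cU := card_fix (U ⊔ E) H hAH hcop.symm hsolv U le_sup_left
    have cB := card_fix (U ⊔ E) H hAH hcop.symm hsolv ⊥ bot_le
    have hbot : ∀ L : Subgroup X, L ⊓ centralizer ((⊥ : Subgroup X) : Set X) = L := by
      intro L
      refine inf_eq_left.2 fun x _ => mem_centralizer_iff.2 ?_
      intro y hy
      have : y = 1 := hy
      rw [this, one_mul, mul_one]
    rw [hbot, hbot] at cB
    have hVall : Nat.card {v : Additive (Abelianization ↥H) //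
        ∀ g ∈ (⊥ : Subgroup X).subgroupOf (U ⊔ E), g • v = v} =
        Nat.card (Additive (Abelianization ↥H)) := by
      refine Nat.card_congr (Equiv.subtypeUnivEquiv ?_)
      intro v g hg
      have : g = 1 := by
        apply Subtype.ext
        exact mem_subgroupOf.1 hg
      rw [this, one_smul]
    rw [hVall] at cB
    have hVdvd : Nat.card (Additive (Abelianization ↥H)) ∣ Nat.card H := ⟨_, by rw [cB, mul_comm]⟩
    have hm := hMF ↥(U ⊔ E : Subgroup X) (Additive (Abelianization ↥H))
      (U.subgroupOf (U ⊔ E)) (E.subgroupOf (U ⊔ E))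
      (by
        intro r hr k hk
        exact mem_subgroupOf.2 (hUn _ (mem_subgroupOf.1 hr) _ (mem_subgroupOf.1 hk)))
      (by
        intro r hr hr1 k hk hrk
        apply Subtype.ext
        exact hfpf _ (mem_subgroupOf.1 hr) (fun h => hr1 (Subtype.ext h)) _ (mem_subgroupOf.1 hk)
          (congrArg Subtype.val hrk))
      (by
        have := solvable_kernel U E hU1 hE1 hUn hfpf
        exact Group.isSolvable_of_isSolvable_injective
          (f := (Subgroup.subgroupOfEquivOfLe (le_sup_left : U ≤ U ⊔ E)).toMonoidHom)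
          (Subgroup.subgroupOfEquivOfLe (le_sup_left : U ≤ U ⊔ E)).injective)
      (by
        have h1 : (Nat.card ↥(U ⊔ E : Subgroup X)).Coprime
            (Nat.card (Additive (Abelianization ↥H))) :=
          Nat.Coprime.coprime_dvd_right hVdvd hcop.symm
        exact Nat.Coprime.mul_left
          (Nat.Coprime.coprime_dvd_left (Subgroup.card_subgroup_dvd_card _) h1)
          (Nat.Coprime.coprime_dvd_left (Subgroup.card_subgroup_dvd_card _) h1))
    rw [← subgroupOf_sup le_sup_left le_sup_right, card_subgroupOf_of_le le_sup_right] at hm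
    rw [cA, cE, cU]
    conv_lhs => rw [cB]
    rw [mul_pow, mul_pow]
    calc _ = (Nat.card ↥(⁅H, H⁆ ⊓ centralizer ((U ⊔ E : Subgroup X) : Set X)) ^ Nat.card E *
          Nat.card ↥(⁅H, H⁆ : Subgroup X)) *
          (Nat.card {v : Additive (Abelianization ↥H) //
            ∀ g ∈ (U ⊔ E).subgroupOf (U ⊔ E), g • v = v} ^ Nat.card E *
            Nat.card (Additive (Abelianization ↥H))) := by ring
      _ = _ := by rw [ih', hm]; ring

/-- The statement of S1545, modulo the module formula. -/
theorem formula (hMF : ModuleFormula.{u}) (U E H : Subgroup X) (hU1 : U ≠ ⊥) (hE1 : E ≠ ⊥)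
    (hUn : ∀ e ∈ E, ∀ u ∈ U, e * u * e⁻¹ ∈ U)
    (hfpf : ∀ e ∈ E, e ≠ 1 → ∀ u ∈ U, e * u = u * e → u = 1)
    (hHn : ∀ x ∈ U ⊔ E, ∀ h ∈ H, x * h * x⁻¹ ∈ H)
    (hsolv : Group.IsSolvable H) (hcop : Nat.Coprime (Nat.card H) (Nat.card ↥(U ⊔ E))) :
    Nat.card ↥(H ⊓ Subgroup.centralizer ((U ⊔ E : Subgroup X) : Set X)) ^ Nat.card E * Nat.card H =
      Nat.card ↥(H ⊓ Subgroup.centralizer (E : Set X)) ^ Nat.card E *
        Nat.card ↥(H ⊓ Subgroup.centralizer (U : Set X)) :=
  formula_aux hMF U E hU1 hE1 hUn hfpf _ H rfl (le_normalizer_iff.2 hHn) hsolv hcop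

end Cfsg.Agent.Lib.Helper32.FrobRed
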