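import Cfsg.Agent.Lib.Helper19.Dihedral

set_option autoImplicit false

namespace Cfsg.Agent.Lib.Helper32

open Cfsg.Agent.Lib.Helper19

/-- A finite set with a fixed-point-free involution has even cardinality. -/
theorem even_card_of_involution {α : Type*} [DecidableEq α] (s : Finset α) (f : α → α)
    (hmem : ∀ a ∈ s, f a ∈ s) (hinv : ∀ a ∈ s, f (f a) = a) (hne : ∀ a ∈ s, f a ≠ a) :
    Even s.card := by
  have h : (∑ _a ∈ s, (1 : ZMod 2)) = 0 :=
    Finset.sum_involution (fun a _ => f a) (fun a _ => by decide) (fun a ha _ => hne a ha)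
      (fun a ha => hmem a ha) (fun a ha => hinv a ha)
  rw [Finset.sum_const, nsmul_eq_mul, mul_one, ZMod.natCast_eq_zero_iff] at h
  exact even_iff_two_dvd.mpr h

variable {G : Type*} [Group G]

/-- Two involutions with product of odd order are swapped by a conjugate `a s a⁻¹` of `s`,
with `a` a power of `s u`. -/
theorem exists_conj_swap_of_odd {s u : G} (hs : s * s = 1) (hu : u * u = 1)
    (ho : Odd (orderOf (s * u))) :
    ∃ j : ℕ, ((s * u) ^ j * s * ((s * u) ^ j)⁻¹) * s * ((s * u) ^ j * s * ((s * u) ^ j)⁻¹) = u := by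
  obtain ⟨k, hk⟩ := ho
  refine ⟨k * (k + 1), ?_⟩
  set r := s * u with hr
  set a := r ^ (k * (k + 1)) with ha
  have h1 : s * a * s = a⁻¹ := invol_conj_mul_pow hs hu _
  have h2 : s * a⁻¹ = a * s := by
    rw [← h1]
    calc s * (s * a * s) = (s * s) * a * s := by group
      _ = a * s := by rw [hs, one_mul]
  have h4 : a * a * a * a * r = 1 := by
    have : a * a * a * a * r = r ^ ((2 * k + 1) * (2 * k + 1)) := by
      rw [ha, ← pow_add, ← pow_add, ← pow_add, ← pow_succ]
      congr 1
      ring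
    rw [this, ← hk, pow_mul, pow_orderOf_eq_one, one_pow]
  have h5 : a * a * a * a = r⁻¹ := eq_inv_of_mul_eq_one_left h4
  calc a * s * a⁻¹ * s * (a * s * a⁻¹) = a * (s * a⁻¹) * s * a * (s * a⁻¹) := by group
    _ = a * (a * s) * s * a * (a * s) := by rw [h2]
    _ = a * a * (s * s) * a * a * s := by group
    _ = a * a * a * a * s := by rw [hs, mul_one]
    _ = r⁻¹ * s := by rw [h5]
    _ = u⁻¹ := by rw [hr]; group
    _ = u := invol_inv hu

/-- Two involutions with product of even order: the central involution `c` of the dihedral group they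
generate, and `s c` is conjugate to `s` or to `u`. -/
theorem exists_central_invol_conj_of_even [Finite G] {s u : G} (hs : s * s = 1) (hu : u * u = 1)
    (he : Even (orderOf (s * u))) :
    ∃ c : G, c ≠ 1 ∧ c * c = 1 ∧ c * s = s * c ∧ c * u = u * c ∧
      ∃ a : G, s * c = a * s * a⁻¹ ∨ s * c = a * u * a⁻¹ := by
  obtain ⟨k, hk⟩ := he
  set r := s * u with hr
  have hpos : 0 < orderOf r := orderOf_pos _
  have hk0 : k ≠ 0 := by omega
  have hcc : r ^ k * r ^ k = 1 := by rw [← pow_add, ← hk, pow_orderOf_eq_one]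
  have hc1 : r ^ k ≠ 1 := pow_ne_one_of_lt_orderOf hk0 (by omega)
  have hinv : (r ^ k)⁻¹ = r ^ k := invol_inv hcc
  have h1 : s * r ^ k * s = r ^ k := by rw [invol_conj_mul_pow hs hu k, hinv]
  have hcs : r ^ k * s = s * r ^ k := by
    calc r ^ k * s = (s * r ^ k * s) * s := by rw [h1]
      _ = s * r ^ k * (s * s) := by group
      _ = s * r ^ k := by rw [hs, mul_one]
  have hur : u = s * r := by
    rw [hr, ← mul_assoc, hs, one_mul]
  have hcr : r ^ k * r = r * r ^ k := by rw [← pow_succ, ← pow_succ']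
  have hcu : r ^ k * u = u * r ^ k := by
    rw [hur]
    calc r ^ k * (s * r) = (r ^ k * s) * r := by group
      _ = s * (r ^ k * r) := by rw [hcs]; group
      _ = s * r * r ^ k := by rw [hcr]; group
  refine ⟨r ^ k, hc1, hcc, hcs, hcu, ?_⟩
  have hsj : ∀ j : ℕ, (r ^ j)⁻¹ * s = s * r ^ j := by
    intro j
    rw [← invol_conj_mul_pow hs hu j]
    calc s * r ^ j * s * s = s * r ^ j * (s * s) := by group
      _ = s * r ^ j := by rw [hs, mul_one]
  rcases Nat.even_or_odd' k with ⟨j, hj | hj⟩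
  · refine ⟨(r ^ j)⁻¹, Or.inl ?_⟩
    rw [hsj j, inv_inv, mul_assoc, ← pow_add, hj]
    congr 2
    ring
  · refine ⟨(r ^ j)⁻¹, Or.inr ?_⟩
    rw [inv_inv, hur]
    calc s * r ^ k = s * r ^ j * r * r ^ j := by
          rw [mul_assoc, mul_assoc, ← pow_succ', ← pow_add, hj]
          congr 2
          ring
      _ = (r ^ j)⁻¹ * s * r * r ^ j := by rw [hsj j]
      _ = (r ^ j)⁻¹ * (s * r) * r ^ j := by group

end Cfsg.Agent.Lib.Helper32
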