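import Cfsg.Agent.Lib.Helper12.SoftS1
import Cfsg.Agent.Lib.Helper12.SoftS2

set_option autoImplicit false

namespace Cfsg.Agent.Lib.Helper32.Soft

open Subgroup

universe u

/-- soft subgroup -/
structure IsSoft {P : Type*} [Group P] (p : ℕ) (E : Subgroup P) : Prop where
  comm : ∀ a ∈ E, ∀ b ∈ E, a * b = b * a
  cent : Subgroup.centralizer (E : Set P) ≤ E
  idx : E.relIndex (Subgroup.normalizer (E : Set P)) = p

/-- the overgroups form a chain and have index `p` in their normalizers -/
def Good {P : Type*} [Group P] (p : ℕ) (E : Subgroup P) : Prop :=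
  (∀ K L : Subgroup P, E ≤ K → E ≤ L → K ≤ L ∨ L ≤ K) ∧
  (∀ K : Subgroup P, E ≤ K → K ≠ ⊤ → K.relIndex (Subgroup.normalizer (K : Set P)) = p)

theorem eq_of_lt_of_le {G : Type*} [Group G] {p : ℕ} (hp : p.Prime) {E H N : Subgroup G}
    (h1 : E < H) (h2 : H ≤ N) (h : E.relIndex N = p) : H = N := by
  have hm := Subgroup.relIndex_mul_relIndex E H N h1.le h2
  rw [h] at hm
  have h3 : E.relIndex H ≠ 1 := by
    intro h4
    exact absurd (Subgroup.relIndex_eq_one.1 h4) (not_le_of_gt h1)
  have h4 : E.relIndex H = p := by
    rcases (Nat.dvd_prime hp).1 (Dvd.intro _ hm) with h5 | h5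
    · exact absurd h5 h3
    · exact h5
  rw [h4] at hm
  have h5 : H.relIndex N = 1 := by
    have := hp.pos
    nlinarith
  exact le_antisymm h2 (Subgroup.relIndex_eq_one.1 h5)

theorem exists_normalizer_of_lt {P : Type*} [Group P] [Finite P] {p : ℕ} [Fact p.Prime]
    (hP : IsPGroup p P) {E K : Subgroup P} (h : E < K) :
    ∃ x ∈ K, x ∈ normalizer (E : Set P) ∧ x ∉ E := by
  have : Group.IsNilpotent K := (hP.to_subgroup K).isNilpotent
  have hnc := Group.normalizerCondition_of_isNilpotent (G := K)
  have h1 : E.subgroupOf K < ⊤ := by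
    rw [lt_top_iff_ne_top]
    intro h2
    rw [subgroupOf_eq_top] at h2
    exact absurd h2 (not_le_of_gt h)
  have h2 := hnc _ h1
  rw [← subgroupOf_normalizer_eq h.le] at h2
  obtain ⟨x, hx1, hx2⟩ := SetLike.exists_of_lt h2
  exact ⟨x.1, x.2, hx1, hx2⟩

theorem normalizer_le_of_lt {P : Type*} [Group P] [Finite P] {p : ℕ} [hp : Fact p.Prime]
    (hP : IsPGroup p P) {E K : Subgroup P}
    (hidx : E.relIndex (Subgroup.normalizer (E : Set P)) = p) (h : E < K) :
    normalizer (E : Set P) ≤ K := by
  obtain ⟨x, hxK, hxN, hxE⟩ := exists_normalizer_of_lt hP h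
  have h1 : E < K ⊓ normalizer (E : Set P) :=
    lt_of_le_of_ne (le_inf h.le le_normalizer) (fun h2 => hxE (h2 ▸ ⟨hxK, hxN⟩))
  have h2 := eq_of_lt_of_le hp.out h1 inf_le_right hidx
  rw [← h2]
  exact inf_le_left

theorem relIndex_normalizer_map {P : Type*} [Group P] (N : Subgroup P) [N.Normal]
    {F : Subgroup P} (hNF : N ≤ F) :
    (F.map (QuotientGroup.mk' N)).relIndex
      (normalizer ((F.map (QuotientGroup.mk' N) : Subgroup (P ⧸ N)) : Set (P ⧸ N))) =
      F.relIndex (normalizer (F : Set P)) := by
  have hcm : (F.map (QuotientGroup.mk' N)).comap (QuotientGroup.mk' N) = F := by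
    apply comap_map_eq_self
    rw [QuotientGroup.ker_mk']
    exact hNF
  conv_rhs => rw [← hcm]
  rw [← comap_normalizer_eq_of_surjective _ (QuotientGroup.mk'_surjective N), relIndex_comap,
    map_comap_eq_self_of_surjective (QuotientGroup.mk'_surjective N)]

theorem normalizer_map {P : Type*} [Group P] (N : Subgroup P) [N.Normal]
    {F : Subgroup P} (hNF : N ≤ F) :
    normalizer ((F.map (QuotientGroup.mk' N) : Subgroup (P ⧸ N)) : Set (P ⧸ N)) =
      (normalizer (F : Set P)).map (QuotientGroup.mk' N) := by
  have hcm : (F.map (QuotientGroup.mk' N)).comap (QuotientGroup.mk' N) = F := by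
    apply comap_map_eq_self
    rw [QuotientGroup.ker_mk']
    exact hNF
  conv_rhs => rw [← hcm]
  rw [← comap_normalizer_eq_of_surjective _ (QuotientGroup.mk'_surjective N),
    map_comap_eq_self_of_surjective (QuotientGroup.mk'_surjective N)]

theorem good_of_map {P : Type*} [Group P] {p : ℕ} (N : Subgroup P) [N.Normal]
    {F : Subgroup P} (hNF : N ≤ F) (h : Good p (F.map (QuotientGroup.mk' N))) : Good p F := by
  have hcm : ∀ K : Subgroup P, F ≤ K →
      (K.map (QuotientGroup.mk' N)).comap (QuotientGroup.mk' N) = K := by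
    intro K hK
    apply comap_map_eq_self
    rw [QuotientGroup.ker_mk']
    exact hNF.trans hK
  constructor
  · intro K L hK hL
    rcases h.1 _ _ (map_mono hK) (map_mono hL) with h1 | h1
    · left
      rw [← hcm K hK, ← hcm L hL]
      exact comap_mono h1
    · right
      rw [← hcm K hK, ← hcm L hL]
      exact comap_mono h1
  · intro K hK hKt
    have h1 := h.2 (K.map (QuotientGroup.mk' N)) (map_mono hK) (by
      intro h2
      apply hKt
      rw [← hcm K hK, h2, comap_top])
    rw [relIndex_normalizer_map N (hNF.trans hK)] at h1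
    exact h1

theorem good_of_good_normalizer {P : Type*} [Group P] [Finite P] {p : ℕ} [hp : Fact p.Prime]
    (hP : IsPGroup p P) {E : Subgroup P}
    (hidx : E.relIndex (Subgroup.normalizer (E : Set P)) = p)
    (h : Good p (normalizer (E : Set P))) : Good p E := by
  have key : ∀ K : Subgroup P, E ≤ K → K = E ∨ normalizer (E : Set P) ≤ K := by
    intro K hK
    rcases eq_or_lt_of_le hK with h1 | h1
    · exact Or.inl h1.symm
    · exact Or.inr (normalizer_le_of_lt hP hidx h1)
  constructor
  · intro K L hK hL
    rcases key K hK with h1 | h1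
    · left; rw [h1]; exact hL
    · rcases key L hL with h2 | h2
      · right; rw [h2]; exact hK
      · exact h.1 K L h1 h2
  · intro K hK hKt
    rcases key K hK with h1 | h1
    · rw [h1]; exact hidx
    · exact h.2 K h1 hKt

theorem good_of_soft_aux : ∀ (n : ℕ) {P : Type u} [Group P] [Finite P] (p : ℕ) [Fact p.Prime]
    (_ : IsPGroup p P) (E : Subgroup P), Nat.card P = n → IsSoft p E → Good p E := by
  intro n
  induction n using Nat.strong_induction_on with
  | _ n ih =>
    intro P _ _ p hp hP E hn hE
    by_cases hN1 : normalizer (E : Set P) = ⊤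
    · have key : ∀ K : Subgroup P, E ≤ K → K = E ∨ K = ⊤ := by
        intro K hK
        rcases eq_or_lt_of_le hK with h1 | h1
        · exact Or.inl h1.symm
        · right
          have := eq_of_lt_of_le hp.out h1 (hN1 ▸ le_top) hE.idx
          rw [this, hN1]
      constructor
      · intro K L hK hL
        rcases key K hK with h1 | h1
        · left; rw [h1]; exact hL
        · right; rw [h1]; exact le_top
      · intro K hK hKt
        rcases key K hK with h1 | h1
        · rw [h1]; exact hE.idx
        · exact absurd h1 hKt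
    · have : Nontrivial P := by
        by_contra hnt
        rw [not_nontrivial_iff_subsingleton] at hnt
        exact hN1 (Subsingleton.elim _ _)
      have := hP.center_nontrivial
      have hZE : center P ≤ E := (center_le_centralizer _).trans hE.cent
      have hlt : Nat.card (P ⧸ center P) < n := by
        have h1 := Subgroup.card_eq_card_quotient_mul_card_subgroup (center P)
        have h2 : 1 < Nat.card (center P) := Finite.one_lt_card
        have h3 : 0 < Nat.card (P ⧸ center P) := Nat.card_pos
        rw [← hn, h1]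
        nlinarith
      have hPq : IsPGroup p (P ⧸ center P) := hP.to_quotient _
      set π := QuotientGroup.mk' (center P) with hπ
      have hcommE : ∀ a ∈ E.map π, ∀ b ∈ E.map π, a * b = b * a := by
        rintro _ ⟨a, ha, rfl⟩ _ ⟨b, hb, rfl⟩
        rw [← map_mul, ← map_mul, hE.comm a ha b hb]
      have hidxE := relIndex_normalizer_map (center P) hZE
      rw [hE.idx] at hidxE
      by_cases hc : centralizer ((E.map π : Subgroup (P ⧸ center P)) : Set (P ⧸ center P)) ≤ E.map π
      · exact good_of_map (center P) hZE (ih _ hlt p hPq _ rfl ⟨hcommE, hc, hidxE⟩)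
      · apply good_of_good_normalizer hP hE.idx
        have hZN : center P ≤ normalizer (E : Set P) := hZE.trans le_normalizer
        apply good_of_map (center P) hZN
        apply ih _ hlt p hPq _ rfl
        obtain ⟨x, hx1, hx2⟩ := SetLike.not_le_iff_exists.1 hc
        have hEC : E.map π ≤ centralizer ((E.map π : Subgroup (P ⧸ center P)) : Set (P ⧸ center P)) := by
          intro a ha
          rw [mem_centralizer_iff]
          intro b hb
          exact hcommE b hb a ha
        have hlt2 : E.map π < centralizer ((E.map π : Subgroup (P ⧸ center P)) : Set (P ⧸ center P)) :=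
          lt_of_le_of_ne hEC (fun h2 => hx2 (h2 ▸ hx1))
        have hCN := eq_of_lt_of_le hp.out hlt2 (centralizer_le_normalizer _) hidxE
        rw [normalizer_map (center P) hZE] at hCN
        have hsup : E.map π ⊔ zpowers x = (normalizer (E : Set P)).map π := by
          apply eq_of_lt_of_le hp.out (E := E.map π) _ _ _
          · exact lt_of_le_of_ne le_sup_left
              (fun h2 => hx2 (h2 ▸ (mem_sup_right (mem_zpowers x))))
          · rw [← hCN]
            exact sup_le hEC (by rw [zpowers_le]; exact hx1)
          · rw [← normalizer_map (center P) hZE]; exact hidxE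
        refine ⟨?_, ?_, ?_⟩
        · have hx3 : ∀ b ∈ (normalizer (E : Set P)).map π, x * b = b * x := by
            intro b hb
            have : E.map π ⊔ zpowers x ≤ centralizer {x} := by
              apply sup_le
              · intro a ha
                rw [mem_centralizer_singleton_iff]
                exact ((mem_centralizer_iff.1 hx1) a ha)
              · rw [zpowers_le, mem_centralizer_singleton_iff]
            rw [hsup] at this
            exact (mem_centralizer_singleton_iff.1 (this hb)).symm
          intro a ha b hb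
          have : E.map π ⊔ zpowers x ≤ centralizer {a} := by
            apply sup_le
            · intro c hc'
              rw [mem_centralizer_singleton_iff]
              rw [← hCN] at ha
              exact ((mem_centralizer_iff.1 ha) c hc')
            · rw [zpowers_le, mem_centralizer_singleton_iff]
              exact hx3 a ha
          rw [hsup] at this
          exact (mem_centralizer_singleton_iff.1 (this hb)).symm
        · rw [← hCN]
          apply centralizer_le
          rw [hCN]
          exact map_mono le_normalizer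
        · rw [relIndex_normalizer_map (center P) hZN]
          exact Cfsg.Agent.Lib.Helper12.Soft.relIndex_normalizer_normalizer p hP E hE.comm hE.cent hE.idx hN1

theorem good_of_soft {P : Type u} [Group P] [Finite P] (p : ℕ) [Fact p.Prime]
    (hP : IsPGroup p P) (E : Subgroup P) (hE : IsSoft p E) : Good p E :=
  good_of_soft_aux _ p hP E rfl hE

/-- conjugation by an element of the normalizer, as an automorphism of the subgroup -/
def conjN {P : Type*} [Group P] (K : Subgroup P) (g : P) (hg : g ∈ normalizer (K : Set P)) :
    K ≃* K where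
  toFun x := ⟨g * x * g⁻¹, (mem_normalizer_iff.1 hg x).1 x.2⟩
  invFun x := ⟨g⁻¹ * x * g, by
    have := (mem_normalizer_iff.1 (inv_mem hg) x).1 x.2
    simpa using this⟩
  left_inv x := by ext; simp [mul_assoc]
  right_inv x := by ext; simp [mul_assoc]
  map_mul' x y := by ext; simp [mul_assoc]

theorem normalizer_le_of_good {P : Type*} [Group P] {p : ℕ} (hp : p.Prime) {E : Subgroup P}
    (h : Good p E) {L K : Subgroup P} (hEL : E ≤ L) (hLK : L < K) :
    normalizer (L : Set P) ≤ K := by
  have hLt : L ≠ ⊤ := fun h1 => absurd (h1 ▸ hLK) (not_lt_of_ge le_top)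
  rcases h.1 (normalizer (L : Set P)) K (hEL.trans le_normalizer) (hEL.trans hLK.le) with h1 | h1
  · exact h1
  · exact (eq_of_lt_of_le hp hLK h1 (h.2 L hEL hLt)).ge

theorem class_of_soft {P : Type u} [Group P] [Finite P] (p : ℕ) [hp : Fact p.Prime]
    (hP : IsPGroup p P) (E : Subgroup P) (hE : IsSoft p E)
    (i : ℕ) (K : Subgroup P) [Group.IsNilpotent ↥K] (hEK : E ≤ K) (hKt : K ≠ ⊤)
    (hi : K.index * p ^ i = E.index) (hi1 : 1 ≤ i) :
    Group.nilpotencyClass ↥K = i + 1 := by
  have hgood := good_of_soft p hP E hE
  obtain ⟨g, -, hgN, hgK⟩ := exists_normalizer_of_lt hP (lt_top_iff_ne_top.2 hKt)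
  have hKg : K.map (MulAut.conj g).toMonoidHom = K := (mem_normalizer_iff_map_conj_eq).1 hgN
  apply Cfsg.Agent.Lib.Helper12.Soft.class_eq p (E.subgroupOf K) _ _ _ (conjN K g hgN) _ i hi1 _
  · rintro ⟨a, haK⟩ ha ⟨b, hbK⟩ hb
    ext
    exact hE.comm a ha b hb
  · rintro ⟨x, hxK⟩ hx
    rw [mem_subgroupOf]
    apply hE.cent
    rw [mem_centralizer_iff]
    intro e he
    have := (mem_center_iff.1 hx) ⟨e, hEK he⟩
    exact congrArg Subtype.val this
  · intro L hL hLt
    have hL0 : L = (L.map K.subtype).subgroupOf K := by
      rw [subgroupOf, comap_map_eq_self_of_injective K.subtype_injective]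
    have hLK : L.map K.subtype < K := by
      refine lt_of_le_of_ne (map_subtype_le L) ?_
      intro h1
      apply hLt
      rw [hL0, h1, subgroupOf_self]
    have hEL : E ≤ L.map K.subtype := by
      intro e he
      exact ⟨⟨e, hEK he⟩, hL he, rfl⟩
    have hn := normalizer_le_of_good hp.out hgood hEL hLK
    have hLt' : L.map K.subtype ≠ ⊤ := fun h1 => absurd (h1 ▸ hLK) (not_lt_of_ge le_top)
    rw [hL0, ← subgroupOf_normalizer_eq hLK.le, relIndex_subgroupOf hn]
    exact hgood.2 _ hEL hLt'
  · -- generation
    set J := E ⊔ E.map (MulAut.conj g).toMonoidHom with hJ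
    have hEgK : E.map (MulAut.conj g).toMonoidHom ≤ K := by
      rw [← hKg]; exact map_mono hEK
    have hJK : J ≤ K := sup_le hEK hEgK
    have hJeq : J = K := by
      by_contra hne
      have hlt : J < K := lt_of_le_of_ne hJK hne
      have hn := normalizer_le_of_good hp.out hgood le_sup_left hlt
      apply hgK
      apply hn
      have h2 : E ≤ J.map (MulAut.conj g⁻¹).toMonoidHom := by
        intro e he
        refine ⟨g * e * g⁻¹, mem_sup_right ⟨e, he, rfl⟩, ?_⟩
        simp [mul_assoc]
      have hcard : Nat.card (J.map (MulAut.conj g⁻¹).toMonoidHom) = Nat.card J :=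
        card_map_of_injective (MulAut.conj g⁻¹).injective
      have h3 : J.map (MulAut.conj g⁻¹).toMonoidHom = J := by
        rcases hgood.1 _ _ h2 (le_sup_left : E ≤ J) with h4 | h4
        · exact eq_of_le_of_card_ge h4 hcard.ge
        · exact (eq_of_le_of_card_ge h4 hcard.le).symm
      have h4 : g⁻¹ ∈ normalizer (J : Set P) := mem_normalizer_iff_map_conj_eq.2 h3
      have h5 := inv_mem h4
      rwa [inv_inv] at h5
    have h1 : (E.subgroupOf K).map (conjN K g hgN).toMonoidHom =
        (E.map (MulAut.conj g).toMonoidHom).subgroupOf K := by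
      ext ⟨x, hx⟩
      constructor
      · rintro ⟨⟨e, heK⟩, he, hex⟩
        rw [mem_subgroupOf]
        refine ⟨e, he, ?_⟩
        exact congrArg Subtype.val hex
      · rintro ⟨e, he, hex⟩
        refine ⟨⟨e, hEK he⟩, he, ?_⟩
        ext
        exact hex
    rw [h1, ← subgroupOf_sup hEK hEgK, ← hJ, hJeq, subgroupOf_self]
  · have h1 := relIndex_mul_index hEK
    rw [← hi] at h1
    have h2 : K.index ≠ 0 := index_ne_zero_of_finite
    show E.relIndex K = p ^ i
    have h3 : K.index * E.relIndex K = K.index * p ^ i := by rw [← h1]; ring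
    exact Nat.eq_of_mul_eq_mul_left (Nat.pos_of_ne_zero h2) h3

theorem class_of_soft_zero {P : Type u} [Group P] [Finite P] (p : ℕ)
    (E : Subgroup P) (hE : IsSoft p E)
    (K : Subgroup P) [Group.IsNilpotent ↥K] (hEK : E ≤ K) (hKt : K ≠ ⊤)
    (hi : K.index = E.index) :
    Group.nilpotencyClass ↥K = 1 := by
  have hKE : K ≤ E := by
    have h1 := relIndex_mul_index hEK
    rw [← hi] at h1
    have h2 : K.index ≠ 0 := index_ne_zero_of_finite
    have h3 : E.relIndex K = 1 := by
      have : E.relIndex K * K.index = 1 * K.index := by rw [h1, one_mul]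
      exact Nat.eq_of_mul_eq_mul_right (Nat.pos_of_ne_zero h2) this
    exact relIndex_eq_one.1 h3
  apply le_antisymm
  · rw [← Subgroup.lowerCentralSeries_eq_bot_iff_nilpotencyClass_le]
    rw [Subgroup.lowerCentralSeries_succ, Subgroup.lowerCentralSeries_zero, commutator_eq_bot_iff_le_centralizer]
    rintro ⟨a, ha⟩ -
    rw [mem_centralizer_iff]
    rintro ⟨b, hb⟩ -
    ext
    exact hE.comm b (hKE hb) a (hKE ha)
  · rw [Nat.one_le_iff_ne_zero]
    intro h0
    rw [Group.nilpotencyClass_zero_iff_subsingleton] at h0
    apply hKt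
    have hK1 : K = ⊥ := by
      rw [eq_bot_iff]
      intro x hx
      have := h0.elim ⟨x, hx⟩ 1
      exact congrArg Subtype.val this
    have hE1 : E = ⊥ := by rw [eq_bot_iff, ← hK1]; exact hEK
    have h1 : centralizer (E : Set P) = ⊤ := by
      rw [hE1, eq_top_iff]
      intro x _
      rw [mem_centralizer_iff]
      intro y hy
      have : y = 1 := hy
      rw [this]; simp
    rw [eq_top_iff, ← h1]
    exact hE.cent.trans hEK

end Cfsg.Agent.Lib.Helper32.Soft
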