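import Cfsg.Prelude.Def_Local
import Cfsg.Agent.Lib.Helper33.RelSylow
import Cfsg.Agent.Lib.Helper64.Sylow
import Cfsg.Agent.Lib.Helper22.SupLemmas

set_option autoImplicit false

namespace Cfsg.Agent.Lib.Helper32

open Subgroup Cfsg.Agent.Lib.Helper33
open scoped Pointwise

variable {G : Type*} [Group G]

/-- A Sylow subgroup of `H` meets a normal subgroup `N` of `H` in a Sylow subgroup of `N`. -/
theorem RelSyl.inf_normal [Finite G] {p : ℕ} {S H N : Subgroup G} (h : RelSyl p S H) (hN : N ≤ H)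
    (hn : H ≤ normalizer (N : Set G)) : RelSyl p (S ⊓ N) N := by
  refine ⟨inf_le_right, h.2.1.to_le inf_le_left, ?_⟩
  rw [inf_relIndex_right]
  have : (N.subgroupOf H).Normal := (normal_subgroupOf_iff_le_normalizer hN).mpr hn
  have h1 := Cfsg.Agent.Lib.Helper64.relIndex_dvd_index_of_normal_right (S.subgroupOf H)
    (N.subgroupOf H)
  rw [relIndex_subgroupOf hN] at h1
  exact fun hd => h.2.2 (hd.trans h1)

theorem eq_bot_of_isPGroup_two_of_le_odd [Finite G] {A B : Subgroup G} (hA : IsPGroup 2 A)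
    (hAB : A ≤ B) (hB : Odd (Nat.card B)) : A = ⊥ := by
  obtain ⟨k, hk⟩ := IsPGroup.iff_card.mp hA
  have h1 : Nat.card A ∣ Nat.card B := card_dvd_of_le hAB
  have h2 : Odd (Nat.card A) := Odd.of_dvd_nat hB h1
  rw [hk] at h2
  have hk0 : k = 0 := by
    by_contra h
    exact (Nat.not_even_iff_odd.mpr h2) (Nat.even_pow.mpr ⟨even_two, h⟩)
  rw [hk0, pow_zero] at hk
  exact eq_bot_of_card_eq A hk

/-- Conjugation into a subgroup as an injective homomorphism. -/
theorem exists_injective_of_conj_mem {T R : Subgroup G} (y : G) (h : ∀ t ∈ T, y * t * y⁻¹ ∈ R) :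
    ∃ f : T →* R, Function.Injective f ∧ ∀ t : T, (f t : G) = y * t * y⁻¹ := by
  refine ⟨((MulAut.conj y).toMonoidHom.comp T.subtype).codRestrict R (fun t => h t t.2), ?_,
    fun t => rfl⟩
  intro a b hab
  have h1 := congrArg Subtype.val hab
  have h2 : y * (a : G) * y⁻¹ = y * (b : G) * y⁻¹ := h1
  apply Subtype.ext
  simpa using h2

/-- Projection of an internal direct product onto the second factor. -/
theorem exists_proj_of_commute {T R : Subgroup G} (hc : ∀ t ∈ T, ∀ r ∈ R, t * r = r * t)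
    (hd : T ⊓ R = ⊥) :
    ∃ π : ↥(T ⊔ R) →* R, ∀ y : ↥(T ⊔ R), π y = 1 → (y : G) ∈ T := by
  have hcomm : ∀ (t : T) (r : R), Commute (T.subtype t) (R.subtype r) := fun t r => hc t t.2 r r.2
  have hinj : Function.Injective (MonoidHom.noncommCoprod T.subtype R.subtype hcomm) := by
    rw [MonoidHom.noncommCoprod_injective]
    refine ⟨T.subtype_injective, R.subtype_injective, ?_⟩
    rw [range_subtype, range_subtype, disjoint_iff]
    exact hd
  have hrange : (MonoidHom.noncommCoprod T.subtype R.subtype hcomm).range = T ⊔ R := by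
    rw [MonoidHom.noncommCoprod_range, range_subtype, range_subtype]
  let e : T × R ≃* (MonoidHom.noncommCoprod T.subtype R.subtype hcomm).range :=
    MonoidHom.ofInjective hinj
  let e2 : ↥(T ⊔ R) ≃* (MonoidHom.noncommCoprod T.subtype R.subtype hcomm).range :=
    MulEquiv.subgroupCongr hrange.symm
  refine ⟨(MonoidHom.snd T R).comp (e.symm.toMonoidHom.comp e2.toMonoidHom), ?_⟩
  intro y hy
  have hy' : (e.symm (e2 y)).2 = 1 := hy
  have h1 : e (e.symm (e2 y)) = e2 y := e.apply_symm_apply _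
  have h2 : (MonoidHom.noncommCoprod T.subtype R.subtype hcomm) (e.symm (e2 y)) = (y : G) :=
    congrArg Subtype.val h1
  rw [MonoidHom.noncommCoprod_apply, hy'] at h2
  rw [← h2]
  simp

theorem IsTightlyEmbedded.conj [Finite G] {Q : Subgroup G} (hQ : Cfsg.IsTightlyEmbedded Q) (g : G) :
    Cfsg.IsTightlyEmbedded (MulAut.conj g • Q) := by
  refine ⟨by rw [card_conj_smul]; exact hQ.1, ?_⟩
  intro x hx
  have hx' : g⁻¹ * x * g ∉ normalizer (Q : Set G) := by
    intro h
    apply hx
    rw [← smul_normalizer, mem_conj_smul]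
    exact h
  have h1 := hQ.2 _ hx'
  have e : (MulAut.conj g • Q ⊓ (MulAut.conj g • Q).map (MulAut.conj x).toMonoidHom : Subgroup G)
      = MulAut.conj g • (Q ⊓ Q.map (MulAut.conj (g⁻¹ * x * g)).toMonoidHom) := by
    rw [map_conj, map_conj, smul_inf, conj_smul_smul', conj_smul_smul']
    congr 3
    group
  rw [e, card_conj_smul]
  exact h1

/-- Usable form of tight embedding. -/
theorem IsTightlyEmbedded.mem_normalizer [Finite G] {Q : Subgroup G} (hQ : Cfsg.IsTightlyEmbedded Q)
    {A : Subgroup G} (hA1 : A ≠ ⊥) (hA : IsPGroup 2 A) (hAQ : A ≤ Q) {x : G}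
    (hAx : A ≤ MulAut.conj x • Q) : x ∈ normalizer (Q : Set G) := by
  by_contra hx
  exact hA1 (eq_bot_of_isPGroup_two_of_le_odd hA (le_inf hAQ hAx) (hQ.2 x hx))

end Cfsg.Agent.Lib.Helper32
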